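import Groth.Agent.Lib.ProperPush24.Main
import Groth.Agent.Lib.ConnDescent24.SepClosed

/-!
# The stalk of a proper direct image as the global sections on the geometric fibre
-/

universe u

open CategoryTheory CategoryTheory.Limits AlgebraicGeometry Opposite

set_option backward.isDefEq.respectTransparency.types false

namespace Groth.Agent.ProperPush24

open Groth.Agent.EtStalk Groth.Agent.Gabber24

/-- Global sections over a separably closed field are the stalk. -/
theorem bijective_germ_top_field {k : Type u} [Field k] [IsSepClosed k] (G : EtCoh.Ab (Spec (CommRingCat.of k))) :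
    Function.Bijective (germ (𝟙 (Spec (CommRingCat.of k))) G
      (Over.homMk (𝟙 _) (Category.comp_id _) : fib (𝟙 _) (EtCoh.top (Spec (CommRingCat.of k))))) := by
  refine ⟨fun s t h => eq_of_agree G (U := EtCoh.top (Spec (CommRingCat.of k))) fun x => ?_,
    fun p => ConnDescent24.exists_germ_top G _ p⟩
  let φ : fib (𝟙 _) (EtCoh.top (Spec (CommRingCat.of k))) := Over.homMk (𝟙 _) (Category.comp_id _)
  rw [@Subsingleton.elim (Spec (CommRingCat.of k)) _ x (fibPt φ)]
  exact (mem_agree_iff_germ G φ s t).2 h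

/-- The stalk of the direct image is the group of sections on the geometric fibre. -/
theorem nonempty_stalk_push_iso {X Y : Scheme.{u}} (f : X ⟶ Y) [IsProper f]
    {Ω : Type u} [Field Ω] [IsSepClosed Ω] (ξ : Spec (CommRingCat.of Ω) ⟶ Y) (F : EtCoh.Ab X) :
    Nonempty ((EtCoh.stalk ξ).obj ((EtCoh.push f).obj F) ≅
      ((EtCoh.pull (pullback.fst f ξ)).obj F).obj.obj (op (EtCoh.top (pullback f ξ)))) := by
  haveI := isIso_baseChange0_proper f F ξ (pullback.snd f ξ) (pullback.fst f ξ) (IsPullback.of_hasPullback f ξ)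
  let H := (EtCoh.push (pullback.snd f ξ)).obj ((EtCoh.pull (pullback.fst f ξ)).obj F)
  let φ : fib (𝟙 _) (EtCoh.top (Spec (CommRingCat.of Ω))) := Over.homMk (𝟙 _) (Category.comp_id _)
  haveI : IsIso (germ (𝟙 _) H φ) :=
    (ConcreteCategory.isIso_iff_bijective _).2 (bijective_germ_top_field H)
  exact ⟨eqToIso (congrArg (fun t => (EtCoh.stalk t).obj ((EtCoh.push f).obj F)) (Category.id_comp ξ).symm) ≪≫
    asIso (stalkPull ξ (𝟙 _) ((EtCoh.push f).obj F)) ≪≫
    asIso ((EtCoh.stalk (𝟙 _)).map (EtCoh.baseChange0 f ξ (pullback.snd f ξ) (pullback.fst f ξ)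
      (IsPullback.of_hasPullback f ξ).w F)) ≪≫
    (asIso (germ (𝟙 _) H φ)).symm ≪≫
    ((EtCoh.pull (pullback.fst f ξ)).obj F).obj.mapIso (EtCore.bcTopIso (pullback.snd f ξ)).op.symm⟩

end Groth.Agent.ProperPush24
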