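import Groth.Agent.Lib.ProperPush24.Descend

/-!
# Gluing the pieces at a common stage
-/

universe u

open CategoryTheory CategoryTheory.Limits AlgebraicGeometry Opposite

set_option backward.isDefEq.respectTransparency.types false

namespace Groth.Agent.ProperPush24

open Groth.Agent.EtStalk Groth.Agent.Gabber24

/-- The fibre product over an etale scheme, as an etale scheme. -/
noncomputable def fibProd {X : Scheme.{u}} {M U B : X.Etale} (h : M ⟶ B) (q : U ⟶ B) : X.Etale :=
  MorphismProperty.Over.mk ⊤ (pullback.snd h.left q.left ≫ U.hom) (by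
    haveI : AlgebraicGeometry.Etale M.hom := M.prop
    haveI : AlgebraicGeometry.Etale B.hom := B.prop
    haveI : AlgebraicGeometry.Etale U.hom := U.prop
    haveI : AlgebraicGeometry.Etale (h.left ≫ B.hom) := by rw [MorphismProperty.Over.w]; exact M.prop
    haveI : AlgebraicGeometry.Etale h.left := AlgebraicGeometry.Etale.of_comp h.left B.hom
    infer_instance)

noncomputable def fibProdFst {X : Scheme.{u}} {M U B : X.Etale} (h : M ⟶ B) (q : U ⟶ B) : fibProd h q ⟶ M :=
  MorphismProperty.Over.homMk (pullback.fst h.left q.left) (by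
    show pullback.fst h.left q.left ≫ M.hom = pullback.snd h.left q.left ≫ U.hom
    rw [← MorphismProperty.Over.w h, ← MorphismProperty.Over.w q, pullback.condition_assoc])

noncomputable def fibProdSnd {X : Scheme.{u}} {M U B : X.Etale} (h : M ⟶ B) (q : U ⟶ B) : fibProd h q ⟶ U :=
  MorphismProperty.Over.homMk (pullback.snd h.left q.left) rfl

variable {X Y : Scheme.{u}} (f : X ⟶ Y) [QuasiCompact f] [QuasiSeparated f] {A : Type u} [CommRing A] [IsLocalRing A]
  {α : Spec (CommRingCat.of A) ⟶ Y}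

lemma quasiCompact_bcFst (V : Y.Etale) : QuasiCompact (bcFst f V) :=
  inferInstanceAs (QuasiCompact (pullback.fst V.hom f))

lemma quasiSeparated_bcFst (V : Y.Etale) : QuasiSeparated (bcFst f V) :=
  inferInstanceAs (QuasiSeparated (pullback.fst V.hom f))

lemma exists_lift_toStage (T : Stage α) {S : Scheme.{u}} (r : S ⟶ ((EtCoh.bc f).obj T.V).left)
    (b : S ⟶ Spec (CommRingCat.of A)) (e : r ≫ bcFst f T.V = b ≫ T.a) :
    ∃ l : S ⟶ pullback f α, l ≫ pullback.fst f α = r ≫ ((EtCoh.bc f).obj T.V).hom ∧ l ≫ toStage f T = r := by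
  have hc : bcFst f T.V ≫ T.V.hom = ((EtCoh.bc f).obj T.V).hom ≫ f := pullback.condition
  refine ⟨pullback.lift (r ≫ ((EtCoh.bc f).obj T.V).hom) b ?_, pullback.lift_fst _ _ _, ?_⟩
  · exact (Category.assoc _ _ _).trans ((congrArg (r ≫ ·) hc.symm).trans ((Category.assoc _ _ _).symm.trans
      ((congrArg (· ≫ T.V.hom) e).trans ((Category.assoc _ _ _).trans (congrArg (b ≫ ·) T.w)))))
  · refine pullback.hom_ext ?_ ?_
    · refine (Category.assoc _ _ _).trans ((congrArg (_ ≫ ·) (toStage_fst f T)).trans ?_)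
      exact (Category.assoc _ _ _).symm.trans ((congrArg (· ≫ T.a) (pullback.lift_snd _ _ _)).trans e.symm)
    · exact (Category.assoc _ _ _).trans ((congrArg (_ ≫ ·) (toStage_hom f T)).trans (pullback.lift_fst _ _ _))

variable [Flat α] (F : EtCoh.Ab X)

lemma exists_open_compat {κ : Type u} (T : Stage α)
    (τ : ((EtCoh.pull (pullback.fst f α)).obj F).obj.obj (op (EtCoh.top (pullback f α))))
    (P : κ → Piece f F τ) (m : ∀ k, T.V ⟶ (P k).T.V) (hm : ∀ k, T.a ≫ (m k).left = (P k).T.a) (i j : κ) :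
    ∃ O : T.V.left.Opens, T.pt ∈ O ∧ ∀ (K : Type u) [Field K] [IsSepClosed K]
      (c : Spec (CommRingCat.of K) ⟶ ((EtCoh.bc f).obj T.V).left)
      (a : Spec (CommRingCat.of K) ⟶ (P i).N.left) (b : Spec (CommRingCat.of K) ⟶ (P j).N.left)
      (ξ : Spec (CommRingCat.of K) ⟶ X) (ha : a ≫ (P i).N.hom = ξ) (hb : b ≫ (P j).N.hom = ξ)
      (_ : a ≫ (P i).h.left = c ≫ ((EtCoh.bc f).map (m i)).left)
      (_ : b ≫ (P j).h.left = c ≫ ((EtCoh.bc f).map (m j)).left),
      bcFst f T.V (c default) ∈ O → val F ξ a ha (P i).sec = val F ξ b hb (P j).sec := by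
  let Mi := fibProd (P i).h ((EtCoh.bc f).map (m i))
  let Mj := fibProd (P j).h ((EtCoh.bc f).map (m j))
  let si : Mi.left ⟶ ((EtCoh.bc f).obj T.V).left := (fibProdSnd (P i).h ((EtCoh.bc f).map (m i))).left
  let sj : Mj.left ⟶ ((EtCoh.bc f).obj T.V).left := (fibProdSnd (P j).h ((EtCoh.bc f).map (m j))).left
  let R := pullback si sj
  let p : R ⟶ T.V.left := pullback.fst si sj ≫ si ≫ bcFst f T.V
  haveI : ∀ k, QuasiCompact (P k).h.left := fun k => by
    haveI := (P k).compact
    haveI : IsAffine (P k).T.V.left := (P k).T.affine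
    haveI := quasiSeparated_bcFst f (P k).T.V
    haveI : QuasiSeparatedSpace ((EtCoh.bc f).obj (P k).T.V).left :=
      quasiSeparatedSpace_of_quasiSeparated (bcFst f (P k).T.V)
    infer_instance
  haveI := quasiCompact_bcFst f T.V
  haveI : QuasiCompact si := inferInstanceAs (QuasiCompact (pullback.snd _ _))
  haveI : QuasiCompact sj := inferInstanceAs (QuasiCompact (pullback.snd _ _))
  haveI : QuasiCompact p := inferInstance
  let ai : R ⟶ (P i).N.left := pullback.fst si sj ≫ (fibProdFst (P i).h ((EtCoh.bc f).map (m i))).left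
  let bj : R ⟶ (P j).N.left := pullback.snd si sj ≫ (fibProdFst (P j).h ((EtCoh.bc f).map (m j))).left
  let q : R ⟶ X := pullback.fst si sj ≫ si ≫ ((EtCoh.bc f).obj T.V).hom
  have hq₁ : ai ≫ (P i).N.hom = q := by
    simp only [ai, q, Category.assoc]
    refine congrArg (pullback.fst si sj ≫ ·) ?_
    rw [MorphismProperty.Over.w, ← MorphismProperty.Over.w (fibProdSnd (P i).h ((EtCoh.bc f).map (m i)))]
  have hq₂ : bj ≫ (P j).N.hom = q := by
    simp only [bj, q, Category.assoc]
    rw [pullback.condition_assoc]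
    refine congrArg (pullback.snd si sj ≫ ·) ?_
    rw [MorphismProperty.Over.w, ← MorphismProperty.Over.w (fibProdSnd (P j).h ((EtCoh.bc f).map (m j)))]
  let S : Set R := same F hq₁ hq₂ (P i).sec (P j).sec
  have hi : ai ≫ (P i).h.left = (pullback.fst si sj ≫ si) ≫ ((EtCoh.bc f).map (m i)).left :=
    (Category.assoc _ _ _).trans ((congrArg (pullback.fst si sj ≫ ·) pullback.condition).trans (Category.assoc _ _ _).symm)
  have hj : bj ≫ (P j).h.left = (pullback.fst si sj ≫ si) ≫ ((EtCoh.bc f).map (m j)).left :=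
    (Category.assoc _ _ _).trans ((congrArg (pullback.snd si sj ≫ ·) pullback.condition).trans
      ((Category.assoc _ _ _).symm.trans (congrArg (· ≫ ((EtCoh.bc f).map (m j)).left) pullback.condition.symm)))
  obtain ⟨O, hO, hOS⟩ := exists_open_disjoint T p (C := Sᶜ) (isOpen_same F hq₁ hq₂ _ _).isClosed_compl (by
    intro w hw
    apply hw
    let g := geomPt _ w
    let r := g ≫ pullback.fst p T.a
    obtain ⟨l, hl₁, hlT'⟩ := exists_lift_toStage f T (r ≫ pullback.fst si sj ≫ si) (g ≫ pullback.snd p T.a) (by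
      simp only [r, Category.assoc]
      exact congrArg (g ≫ ·) pullback.condition)
    have hlT : r ≫ pullback.fst si sj ≫ si = l ≫ toStage f T := hlT'.symm
    rw [show pullback.fst p T.a w = r default by
      simp only [r, g, Scheme.Hom.comp_apply, geomPt_default]]
    refine (mem_same_iff F hq₁ hq₂ _ _ r).2 ?_
    have hX : r ≫ q = l ≫ pullback.fst f α := by
      rw [hl₁]; simp only [q, Category.assoc]
    have h1 := (P i).spec _ l (r ≫ ai) (by rw [Category.assoc, hq₁, hX]) (by
      rw [Category.assoc, hi, ← Category.assoc r, hlT, Category.assoc, toStage_map f (m i) (hm i)])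
    have h2 := (P j).spec _ l (r ≫ bj) (by rw [Category.assoc, hq₂, hX]) (by
      rw [Category.assoc, hj, ← Category.assoc r, hlT, Category.assoc, toStage_map f (m j) (hm j)])
    exact (val_congr' F hX.symm rfl rfl).1 (h1.val_eq h2))
  refine ⟨O, hO, fun K _ _ c a b ξ ha hb ea eb hc => ?_⟩
  let r : Spec (CommRingCat.of K) ⟶ R := pullback.lift (pullback.lift a c ea) (pullback.lift b c eb)
    ((pullback.lift_snd _ _ _).trans (pullback.lift_snd _ _ _).symm)
  have hr : r ≫ pullback.fst si sj ≫ si = c := by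
    rw [← Category.assoc]
    exact (congrArg (· ≫ si) (pullback.lift_fst _ _ _)).trans (pullback.lift_snd _ _ _)
  have hmem : r default ∈ S := by
    by_contra hne
    refine hOS _ hne ?_
    show p (r default) ∈ O
    rw [← Scheme.Hom.comp_apply, show r ≫ p = c ≫ bcFst f T.V from ((Category.assoc _ _ _).symm.trans
      (by rw [← hr]; simp only [p, Category.assoc])), Scheme.Hom.comp_apply]
    exact hc
  have := (mem_same_iff F hq₁ hq₂ _ _ r).1 hmem
  have ea' : r ≫ ai = a := by
    rw [← Category.assoc]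
    exact (congrArg (· ≫ _) (pullback.lift_fst _ _ _)).trans (pullback.lift_fst _ _ _)
  have eb' : r ≫ bj = b := by
    rw [← Category.assoc]
    exact (congrArg (· ≫ _) (pullback.lift_snd _ _ _)).trans (pullback.lift_fst _ _ _)
  refine (val_congr' F ?_ ea' eb').1 this
  rw [← hq₁, ← Category.assoc, ea', ha]

set_option maxHeartbeats 1000000 in
/-- Sections over the local algebra come from a stage. -/
theorem exists_stage_section (hL : HasLifts α) (T₀ : Stage α)
    (τ : ((EtCoh.pull (pullback.fst f α)).obj F).obj.obj (op (EtCoh.top (pullback f α)))) :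
    ∃ (T : Stage α) (t : F.obj.obj (op ((EtCoh.bc f).obj T.V))),
      ∀ (K : Type u) [Field K] [IsSepClosed K] (l : Spec (CommRingCat.of K) ⟶ pullback f α),
        At (pullback.fst f α) F τ l l (Category.comp_id l) (l ≫ toStage f T)
          (by rw [Category.assoc, toStage_hom]) t := by
  classical
  choose P hP using exists_piece f F hL T₀ τ
  let I : ↥(pullback f α : Scheme.{u}) → Set ↥(pullback f α : Scheme.{u}) :=
    fun x => toStage f (P x).T ⁻¹' Set.range (P x).h.left
  have hI : ∀ x, IsOpen (I x) := fun x => by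
    haveI : AlgebraicGeometry.Etale (P x).N.hom := (P x).N.prop
    haveI : AlgebraicGeometry.Etale ((EtCoh.bc f).obj (P x).T.V).hom := ((EtCoh.bc f).obj (P x).T.V).prop
    haveI : AlgebraicGeometry.Etale ((P x).h.left ≫ ((EtCoh.bc f).obj (P x).T.V).hom) := by
      rw [MorphismProperty.Over.w]; exact (P x).N.prop
    haveI : AlgebraicGeometry.Etale (P x).h.left := AlgebraicGeometry.Etale.of_comp _ ((EtCoh.bc f).obj (P x).T.V).hom
    exact (P x).h.left.isOpenMap.isOpen_range.preimage (toStage f (P x).T).continuous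
  haveI : CompactSpace (pullback f α : Scheme.{u}) := QuasiCompact.compactSpace_of_compactSpace (pullback.snd f α)
  obtain ⟨S, hS⟩ := isCompact_univ.elim_finite_subcover I hI fun x _ => Set.mem_iUnion.2 ⟨x, hP x⟩
  obtain ⟨T, -, m', hm'⟩ := exists_dominate_finset T₀ S fun x => (P x).T
  let Q : {x // x ∈ S} → Piece f F τ := fun k => P k.1
  let m : ∀ k, T.V ⟶ (Q k).T.V := fun k => m' k.1 k.2
  have hm : ∀ k, T.a ≫ (m k).left = (Q k).T.a := fun k => hm' k.1 k.2
  let p := bcFst f T.V
  haveI := quasiCompact_bcFst f T.V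
  let C : Set ((EtCoh.bc f).obj T.V).left := (⋃ k, ((EtCoh.bc f).map (m k)).left ⁻¹' Set.range (Q k).h.left)ᶜ
  have hC : IsClosed C := (isOpen_iUnion fun k => by
    haveI : AlgebraicGeometry.Etale ((Q k).h.left ≫ ((EtCoh.bc f).obj (Q k).T.V).hom) := by
      rw [MorphismProperty.Over.w]; exact (Q k).N.prop
    haveI : AlgebraicGeometry.Etale ((EtCoh.bc f).obj (Q k).T.V).hom := ((EtCoh.bc f).obj (Q k).T.V).prop
    haveI : AlgebraicGeometry.Etale (Q k).h.left := AlgebraicGeometry.Etale.of_comp _ ((EtCoh.bc f).obj (Q k).T.V).hom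
    exact (Q k).h.left.isOpenMap.isOpen_range.preimage ((EtCoh.bc f).map (m k)).left.continuous).isClosed_compl
  obtain ⟨O₁, hO₁, hcov⟩ := exists_open_disjoint T p hC (by
    intro w hw
    apply hw
    obtain ⟨z, -, hz⟩ := exists_lift_toStage f T (pullback.fst p T.a) (pullback.snd p T.a) pullback.condition
    obtain ⟨x, hx⟩ := Set.mem_iUnion.1 (hS (Set.mem_univ (z w)))
    obtain ⟨hxS, hx'⟩ := Set.mem_iUnion.1 hx
    refine Set.mem_iUnion.2 ⟨⟨x, hxS⟩, ?_⟩
    show ((EtCoh.bc f).map (m ⟨x, hxS⟩)).left (pullback.fst p T.a w) ∈ Set.range (Q ⟨x, hxS⟩).h.left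
    rw [← hz, Scheme.Hom.comp_apply, ← Scheme.Hom.comp_apply (toStage f T), toStage_map f (m ⟨x, hxS⟩) (hm _)]
    exact hx')
  choose O₂ hO₂ hcompat using fun ij : {x // x ∈ S} × {x // x ∈ S} => exists_open_compat f F T τ Q m hm ij.1 ij.2
  let O : T.V.left.Opens := O₁ ⊓ Finset.univ.inf O₂
  have hle : ∀ ij, O ≤ O₂ ij := fun ij => inf_le_right.trans (Finset.inf_le (Finset.mem_univ ij))
  have hpt : T.pt ∈ O := ⟨hO₁, by
    show T.pt ∈ ((Finset.univ.inf O₂ : T.V.left.Opens) : Set T.V.left)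
    rw [TopologicalSpace.Opens.coe_finset_inf, Finset.inf_set_eq_iInter]
    exact Set.mem_iInter₂.2 fun ij _ => hO₂ ij⟩
  let a' : Spec (CommRingCat.of A) ⟶ O.toScheme := IsOpenImmersion.lift O.ι T.a (range_subset_of_closedPoint T.a O hpt)
  have ha' : a' ≫ O.ι = T.a := IsOpenImmersion.lift_fac _ _ _
  obtain ⟨T', n, hn⟩ := exists_affine_stage (α := α) (EtSite.sub T.V O) a' (by
    show a' ≫ O.ι ≫ T.V.hom = α
    rw [← Category.assoc, ha', T.w])
  let n₀ : T'.V ⟶ T.V := n ≫ EtSite.subHom T.V O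
  have hn₀ : T'.a ≫ n₀.left = T.a := (Category.assoc _ _ _).symm.trans ((congrArg (· ≫ O.ι) hn).trans ha')
  have hmemO : ∀ z : ((EtCoh.bc f).obj T'.V).left, bcFst f T.V (((EtCoh.bc f).map n₀).left z) ∈ O := fun z => by
    rw [show bcFst f T.V (((EtCoh.bc f).map n₀).left z) = n₀.left (bcFst f T'.V z) from
      (Scheme.Hom.comp_apply _ _ _).symm.trans ((congrArg (fun t => t z)
        (EtCoh.isPullback_bc_map f n₀).w).trans (Scheme.Hom.comp_apply _ _ _))]
    show (n.left ≫ O.ι) (bcFst f T'.V z) ∈ O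
    rw [Scheme.Hom.comp_apply]
    exact (n.left (bcFst f T'.V z)).2
  let b : ∀ k, (EtCoh.bc f).obj T'.V ⟶ (EtCoh.bc f).obj (Q k).T.V :=
    fun k => (EtCoh.bc f).map n₀ ≫ (EtCoh.bc f).map (m k)
  obtain ⟨t, ht⟩ := exists_glue F (U := (EtCoh.bc f).obj T'.V) (fun k => fibProd (Q k).h (b k))
    (fun k => fibProdSnd (Q k).h (b k)) (fun k => F.obj.map (fibProdFst (Q k).h (b k)).op (Q k).sec) (by
      intro z
      have hz : ((EtCoh.bc f).map n₀).left z ∉ C := fun hc => hcov _ hc (hmemO z).1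
      obtain ⟨k, y, hy⟩ := Set.mem_iUnion.1 (not_not.1 hz)
      obtain ⟨y', -, hy'⟩ := Scheme.Pullback.exists_preimage_pullback (f := (Q k).h.left) (g := (b k).left) y z
        (hy.trans (Scheme.Hom.comp_apply ((EtCoh.bc f).map n₀).left ((EtCoh.bc f).map (m k)).left z).symm)
      exact ⟨k, y', hy'⟩) (by
      intro k l K _ _ ζ a c e ha hc
      let a₁ : Spec (CommRingCat.of K) ⟶ (Q k).N.left := a ≫ (fibProdFst (Q k).h (b k)).left
      let c₁ : Spec (CommRingCat.of K) ⟶ (Q l).N.left := c ≫ (fibProdFst (Q l).h (b l)).left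
      have ha₁ : a₁ ≫ (Q k).N.hom = ζ := by rw [Category.assoc, MorphismProperty.Over.w, ha]
      have hc₁ : c₁ ≫ (Q l).N.hom = ζ := by rw [Category.assoc, MorphismProperty.Over.w, hc]
      rw [val_map F ζ _ a ha a₁ ha₁ rfl, val_map F ζ _ c hc c₁ hc₁ rfl]
      let d := a ≫ (fibProdSnd (Q k).h (b k)).left ≫ ((EtCoh.bc f).map n₀).left
      refine hcompat (k, l) K d a₁ c₁ ζ ha₁ hc₁ ?_ ?_ (hle (k, l) ?_)
      · simp only [a₁, d, Category.assoc]
        exact congrArg (a ≫ ·) pullback.condition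
      · refine (Category.assoc _ _ _).trans ((congrArg (c ≫ ·) pullback.condition).trans ?_)
        refine (Category.assoc _ _ _).symm.trans ((congrArg (· ≫ (b l).left) e.symm).trans ?_)
        simp only [d, Category.assoc]
        rfl
      · simp only [d, Scheme.Hom.comp_apply]
        exact hmemO _)
  refine ⟨T', t, fun K _ _ l => ?_⟩
  obtain ⟨x, hx⟩ := Set.mem_iUnion.1 (hS (Set.mem_univ (l default)))
  obtain ⟨hxS, hx'⟩ := Set.mem_iUnion.1 hx
  let k : {x // x ∈ S} := ⟨x, hxS⟩
  have hb : T'.a ≫ (n₀ ≫ m k).left = (Q k).T.a := (Category.assoc _ _ _).symm.trans ((congrArg (· ≫ (m k).left) hn₀).trans (hm k))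
  let c : Spec (CommRingCat.of K) ⟶ ((EtCoh.bc f).obj (Q k).T.V).left := l ≫ toStage f (Q k).T
  obtain ⟨y, hy⟩ := hx'
  obtain ⟨φ, -⟩ := Scheme.pointSmallEtaleFiberObjToPreimage_surjective c (s₀ := c default) rfl
    (haveI : AlgebraicGeometry.Etale ((Q k).h.left ≫ ((EtCoh.bc f).obj (Q k).T.V).hom) := by
        rw [MorphismProperty.Over.w]; exact (Q k).N.prop
      haveI : AlgebraicGeometry.Etale ((EtCoh.bc f).obj (Q k).T.V).hom := ((EtCoh.bc f).obj (Q k).T.V).prop
      haveI : AlgebraicGeometry.Etale (Q k).h.left := AlgebraicGeometry.Etale.of_comp _ ((EtCoh.bc f).obj (Q k).T.V).hom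
      Scheme.Etale.mk (Q k).h.left) ⟨y, hy.trans (Scheme.Hom.comp_apply _ _ _).symm⟩
  let a : Spec (CommRingCat.of K) ⟶ (Q k).N.left := φ.left
  have hac : a ≫ (Q k).h.left = c := Over.w φ
  have haX : a ≫ (Q k).N.hom = l ≫ pullback.fst f α := by
    rw [← MorphismProperty.Over.w (Q k).h, ← Category.assoc, hac, Category.assoc, toStage_hom]
  have hat := (Q k).spec K l a haX hac
  let a₂ : Spec (CommRingCat.of K) ⟶ (fibProd (Q k).h (b k)).left := pullback.lift a (l ≫ toStage f T') (by
    rw [hac, Category.assoc]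
    show l ≫ toStage f (Q k).T = l ≫ toStage f T' ≫ (b k).left
    rw [show (b k).left = ((EtCoh.bc f).map (n₀ ≫ m k)).left by rw [Functor.map_comp], toStage_map f (n₀ ≫ m k) hb])
  have ha₂ : a₂ ≫ (fibProd (Q k).h (b k)).hom = l ≫ pullback.fst f α := by
    refine (Category.assoc _ _ _).symm.trans ((congrArg (· ≫ ((EtCoh.bc f).obj T'.V).hom) (pullback.lift_snd _ _ _)).trans ?_)
    exact (Category.assoc _ _ _).trans (congrArg (l ≫ ·) (toStage_hom f T'))
  refine hat.congr ?_
  rw [← val_map F _ (fibProdSnd (Q k).h (b k)) a₂ ha₂ (l ≫ toStage f T') _ (pullback.lift_snd _ _ _) t, ht k]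
  exact (val_map F _ (fibProdFst (Q k).h (b k)) a₂ ha₂ a haX (pullback.lift_fst _ _ _) (Q k).sec).symm

end Groth.Agent.ProperPush24
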