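import Groth.Agent.Lib.ProperPush24.Model
import Groth.Agent.Lib.ProperPush24.Section
import Groth.Agent.Lib.Gabber24.Hens
import Groth.Agent.Lib.EtStalk.FiniteBC
import Groth.Agent.Lib.GeomIrr18.Scheme

/-!
# Direct images along proper morphisms commute with base change in degree zero
-/

universe u

open CategoryTheory CategoryTheory.Limits AlgebraicGeometry Opposite

set_option backward.isDefEq.respectTransparency.types false

namespace Groth.Agent.ProperPush24

open Groth.Agent.EtStalk Groth.Agent.Gabber24 Groth.Agent.ConnDescent24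

variable {X Y P : Scheme.{u}} (f : X ⟶ Y) {Ω : Type u} [Field Ω] [IsSepClosed Ω]
  {ξ : Spec (CommRingCat.of Ω) ⟶ Y} {pX : P ⟶ X} {pS : P ⟶ Spec (CommRingCat.of Ω)}

/-- The map from the geometric fibre to the base change of an etale neighbourhood. -/
noncomputable def fibreMap (h : pX ≫ f = pS ≫ ξ) {V : Y.Etale} (v : fib ξ V) : P ⟶ ((EtCoh.bc f).obj V).left :=
  pullback.lift (pS ≫ v.left) pX (by
    refine (Category.assoc _ _ _).trans (Eq.trans ?_ h.symm)
    exact congrArg (pS ≫ ·) (Over.w v))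

lemma fibreMap_hom (h : pX ≫ f = pS ≫ ξ) {V : Y.Etale} (v : fib ξ V) :
    fibreMap f h v ≫ ((EtCoh.bc f).obj V).hom = pX :=
  pullback.lift_snd _ _ _

lemma fibreMap_map (h : pX ≫ f = pS ≫ ξ) {V W : Y.Etale} (m : W ⟶ V) (w : fib ξ W) :
    fibreMap f h w ≫ ((EtCoh.bc f).map m).left = fibreMap f h ((Scheme.pointSmallEtale ξ).fiber.map m w) := by
  refine pullback.hom_ext ?_ ?_
  · refine (Category.assoc _ _ _).trans ((congrArg (_ ≫ ·) (EtCoh.isPullback_bc_map f m).w).trans ?_)
    refine (Category.assoc _ _ _).symm.trans ((congrArg (· ≫ m.left) (pullback.lift_fst _ _ _)).trans ?_)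
    exact (Category.assoc _ _ _).trans (pullback.lift_fst _ _ _).symm
  · exact (Category.assoc _ _ _).trans ((congrArg (fibreMap f h w ≫ ·) (MorphismProperty.Over.w ((EtCoh.bc f).map m))).trans
      ((fibreMap_hom f h w).trans (fibreMap_hom f h _).symm))

lemma bcTop_inv_proj {Q R : Scheme.{u}} (e : Q ⟶ R) :
    (EtCore.bcTopIso e).inv.left ≫ bcFst e (EtCoh.top R) = e := by
  have hc : bcFst e (EtCoh.top R) ≫ 𝟙 R = ((EtCoh.bc e).obj (EtCoh.top R)).hom ≫ e := pullback.condition
  refine (congrArg (_ ≫ ·) ((Category.comp_id _).symm.trans hc)).trans ((Category.assoc _ _ _).symm.trans ?_)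
  exact (congrArg (· ≫ e) (MorphismProperty.Over.w (EtCore.bcTopIso e).inv)).trans (Category.id_comp e)

lemma val_eq_of_eq (F : EtCoh.Ab X) {K : Type u} [Field K] [IsSepClosed K] {ξ : Spec (CommRingCat.of K) ⟶ X}
    {V : X.Etale} {a a' : Spec (CommRingCat.of K) ⟶ V.left} (e : a = a') {ha : a ≫ V.hom = ξ} {ha' : a' ≫ V.hom = ξ}
    (s : F.obj.obj (op V)) : val F ξ a ha s = val F ξ a' ha' s := by
  subst e
  rfl

variable [IsProper f] (hP : IsPullback pX pS f ξ) (F : EtCoh.Ab X)

/-- Germs of the direct image are determined by the values on the geometric fibre. -/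
theorem germ_eq_of_vals {V : Y.Etale} (v : fib ξ V) (t t' : F.obj.obj (op ((EtCoh.bc f).obj V)))
    (h : ∀ (K : Type u) [Field K] [IsSepClosed K] (ζ : Spec (CommRingCat.of K) ⟶ P),
      val F (ζ ≫ pX) (ζ ≫ fibreMap f hP.w v) (by rw [Category.assoc, fibreMap_hom]) t =
        val F (ζ ≫ pX) (ζ ≫ fibreMap f hP.w v) (by rw [Category.assoc, fibreMap_hom]) t') :
    germ ξ ((EtCoh.push f).obj F) v t = germ ξ ((EtCoh.push f).obj F) v t' := by
  let G : Set ((EtCoh.bc f).obj V).left := agree F t t'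
  haveI : IsProper (bcFst f V) := inferInstanceAs (IsProper (pullback.fst V.hom f))
  let vl : Spec (CommRingCat.of Ω) ⟶ V.left := v.left
  let O : V.left.Opens := ⟨(bcFst f V '' Gᶜ)ᶜ, ((bcFst f V).isClosedMap _ (isOpen_agree F t t').isClosed_compl).isOpen_compl⟩
  have hO : vl default ∈ O := by
    rintro ⟨z, hz, hzv⟩
    apply hz
    have hsq : IsPullback (fibreMap f hP.w v) pS (bcFst f V) vl := by
      refine IsPullback.of_right ?_ (pullback.lift_fst _ _ _) (IsPullback.of_hasPullback V.hom f).flip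
      show IsPullback (fibreMap f hP.w v ≫ pullback.snd V.hom f) pS f (vl ≫ V.hom)
      rw [show vl ≫ V.hom = ξ from Over.w v]
      exact (congrArg (fun t => IsPullback t pS f ξ) (fibreMap_hom f hP.w v)).mpr hP
    obtain ⟨w, hw₁, hw₂⟩ := Scheme.exists_preimage_of_isPullback hsq z default hzv
    let ζ := geomPt P w
    let φ : fib (ζ ≫ pX) ((EtCoh.bc f).obj V) := Over.homMk (ζ ≫ fibreMap f hP.w v) (by
      show (ζ ≫ fibreMap f hP.w v) ≫ ((EtCoh.bc f).obj V).hom = ζ ≫ pX
      rw [Category.assoc, fibreMap_hom])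
    have hpt : fibPt φ = z := by
      show (ζ ≫ fibreMap f hP.w v) default = z
      rw [Scheme.Hom.comp_apply, geomPt_default, hw₁]
    rw [← hpt]
    exact (mem_agree_iff_germ F φ t t').2 (h _ ζ)
  let v₀ : Spec (CommRingCat.of Ω) ⟶ O.toScheme := IsOpenImmersion.lift O.ι vl (by
    rw [Scheme.Opens.range_ι]
    rintro _ ⟨z, rfl⟩
    rw [Subsingleton.elim z default]
    exact hO)
  have hv₀ : v₀ ≫ O.ι = vl := IsOpenImmersion.lift_fac _ _ _
  refine (germ_eq_iff ξ ((EtCoh.push f).obj F) v t t').2 ⟨EtSite.sub V O, EtSite.subHom V O,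
    Over.homMk v₀ (by
      show v₀ ≫ O.ι ≫ V.hom = ξ
      rw [← Category.assoc, hv₀]
      exact Over.w v), Over.OverMorphism.ext hv₀, ?_⟩
  refine eq_of_agree F (U := (EtCoh.bc f).obj (EtSite.sub V O)) fun u => (mem_agree_map F _ _ _ u).2 ?_
  by_contra hu
  have hmem : bcFst f V (((EtCoh.bc f).map (EtSite.subHom V O)).left u) ∈ O := by
    rw [show bcFst f V (((EtCoh.bc f).map (EtSite.subHom V O)).left u) = O.ι (bcFst f (EtSite.sub V O) u) from
      (Scheme.Hom.comp_apply _ _ _).symm.trans ((congrArg (fun t => t u)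
        (EtCoh.isPullback_bc_map f (EtSite.subHom V O)).w).trans (Scheme.Hom.comp_apply _ _ _))]
    exact (bcFst f (EtSite.sub V O) u).2
  exact hmem ⟨_, hu, rfl⟩

set_option maxHeartbeats 1000000 in
/-- Sections on the geometric fibre come from an etale neighbourhood. -/
theorem exists_section_of_global
    (σ : ((EtCoh.pull pX).obj F).obj.obj (op (EtCoh.top P))) :
    ∃ (V : Y.Etale) (v : fib ξ V) (t : F.obj.obj (op ((EtCoh.bc f).obj V))),
      ∀ (K : Type u) [Field K] [IsSepClosed K] (ζ : Spec (CommRingCat.of K) ⟶ P),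
        At pX F σ ζ ζ (Category.comp_id ζ) (ζ ≫ fibreMap f hP.w v)
          (by rw [Category.assoc, fibreMap_hom]) t := by
  obtain ⟨A, _, _, _, α, _, hL, ⟨T₀⟩, ζ₀, hζ₀⟩ := exists_model ξ
  let i₀ := Spec.map (CommRingCat.ofHom (IsLocalRing.residue A))
  let pA := pullback.fst f α
  let qA := pullback.snd f α
  let i := pullback.fst qA i₀
  let qk := pullback.snd qA i₀
  obtain ⟨h₁, hh, hsq⟩ : ∃ h₁ : P ⟶ pullback qA i₀, h₁ ≫ i ≫ pA = pX ∧ IsPullback h₁ pS qk ζ₀ := by
    let h₁ : P ⟶ pullback qA i₀ := pullback.lift (pullback.lift pX (pS ≫ ζ₀ ≫ i₀) (by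
      simp only [Category.assoc, i₀]; rw [hζ₀, hP.w])) (pS ≫ ζ₀) (by
        rw [pullback.lift_snd, Category.assoc])
    have hh : h₁ ≫ i ≫ pA = pX := by simp only [h₁, i, pA, pullback.lift_fst_assoc, pullback.lift_fst]
    refine ⟨h₁, hh, IsPullback.of_right ?_ (pullback.lift_snd _ _ _)
      ((IsPullback.of_hasPullback qA i₀).paste_horiz (IsPullback.of_hasPullback f α))⟩
    rw [show ζ₀ ≫ i₀ ≫ α = ξ from hζ₀]
    exact (congrArg (fun t => IsPullback t pS f ξ) hh).mpr hP
  subst hh
  haveI : ConnectedSpace (Spec (CommRingCat.of Ω)) :=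
    { toNonempty := ⟨default⟩, isPreconnected_univ := Set.subsingleton_univ.isPreconnected }
  haveI : GeometricallyConnected ζ₀ := GeomIrr.geometricallyConnected_of_isSepClosed ζ₀
  haveI : GeometricallyConnected h₁ := MorphismProperty.of_isPullback hsq.flip ‹GeometricallyConnected ζ₀›
  haveI : UniversallyOpen ζ₀ := inferInstance
  haveI : UniversallyOpen h₁ := MorphismProperty.of_isPullback hsq.flip ‹UniversallyOpen ζ₀›
  -- descend to the special fibre
  let σ' := fromComp F h₁ (i ≫ pA) σ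
  obtain ⟨ρ, hρ⟩ := (bijective_unit_top h₁ ((EtCoh.pull (i ≫ pA)).obj F)).2
    (((EtCoh.pull h₁).obj ((EtCoh.pull (i ≫ pA)).obj F)).obj.map (EtCore.bcTopIso h₁).hom.op σ')
  -- extend to the strict henselization
  let ρ' := fromComp F i pA ρ
  haveI : IsClosedImmersion i₀ := IsClosedImmersion.spec_of_surjective _ IsLocalRing.residue_surjective
  haveI : IsClosedImmersion i := inferInstanceAs (IsClosedImmersion (pullback.fst qA i₀))
  haveI : IsProper qA := inferInstanceAs (IsProper (pullback.snd f α))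
  have hrange : Set.range i = qA ⁻¹' PrimeSpectrum.zeroLocus (IsLocalRing.maximalIdeal A : Set A) := by
    show Set.range (pullback.fst qA i₀) = _
    rw [Scheme.Pullback.range_fst]
    congr 1
    show Set.range (PrimeSpectrum.comap (IsLocalRing.residue A)) = _
    rw [range_comap_of_surjective _ _ IsLocalRing.residue_surjective, IsLocalRing.ker_residue]
  obtain ⟨τ, hτ⟩ := (bijective_unit_proper (I := IsLocalRing.maximalIdeal A) inferInstance qA i hrange
    ((EtCoh.pull pA).obj F)).2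
    (((EtCoh.pull i).obj ((EtCoh.pull pA).obj F)).obj.map (EtCore.bcTopIso i).hom.op ρ')
  -- descend to a stage
  obtain ⟨T, t, ht⟩ := exists_stage_section f F hL T₀ τ
  let vl : Spec (CommRingCat.of Ω) ⟶ T.V.left := (ζ₀ ≫ i₀) ≫ T.a
  let v : fib ξ T.V := Over.homMk vl (by
    show ((ζ₀ ≫ i₀) ≫ T.a) ≫ T.V.hom = ξ
    rw [Category.assoc, T.w, Category.assoc]
    exact hζ₀)
  refine ⟨T.V, v, t, fun K _ _ ζ => ?_⟩
  have hmap : fibreMap f hP.w v = (h₁ ≫ i) ≫ toStage f T := by
    refine pullback.hom_ext ?_ ?_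
    · refine (pullback.lift_fst _ _ _).trans ?_
      have hk : (h₁ ≫ i) ≫ qA = pS ≫ ζ₀ ≫ i₀ := by
        simp only [i, Category.assoc]
        rw [pullback.condition, ← Category.assoc h₁, show h₁ ≫ pullback.snd qA i₀ = pS ≫ ζ₀ from hsq.w, Category.assoc]
      exact ((Category.assoc _ _ _).trans ((congrArg ((h₁ ≫ i) ≫ ·) (toStage_fst f T)).trans
        ((Category.assoc _ _ _).symm.trans ((congrArg (· ≫ T.a) hk).trans (by
          show (pS ≫ ζ₀ ≫ i₀) ≫ T.a = pS ≫ (ζ₀ ≫ i₀) ≫ T.a
          simp only [Category.assoc]))))).symm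
    · refine (pullback.lift_snd _ _ _).trans ?_
      exact ((Category.assoc _ _ _).trans ((congrArg ((h₁ ≫ i) ≫ ·) (toStage_hom f T)).trans (Category.assoc _ _ _))).symm
  let η := ζ ≫ h₁
  -- on the special fibre
  have hρ' : val ((EtCoh.pull i).obj ((EtCoh.pull pA).obj F)) η η (Category.comp_id η) ρ' =
      stalkPull i η _ (stalkPull pA (η ≫ i) F (val F ((η ≫ i) ≫ pA) ((η ≫ i) ≫ toStage f T)
        (by rw [Category.assoc _ (toStage f T), toStage_hom]) t)) := by
    have e : ((EtCoh.pull i).obj ((EtCoh.pull pA).obj F)).obj.map (EtCore.bcTopIso i).inv.op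
        (res i ((EtCoh.pull pA).obj F) τ) = ρ' := by
      show ((EtCoh.pull i).obj ((EtCoh.pull pA).obj F)).obj.map _ (((EtCoh.pullPushAdj i).unit.app _).hom.app _ τ) = _
      rw [hτ, ← Functor.map_comp_apply, ← op_comp, Iso.inv_hom_id, op_id, Functor.map_id_apply]
    have h1 : At i ((EtCoh.pull pA).obj F) ρ' η η (Category.comp_id η) (η ≫ i) (Category.comp_id _) τ :=
      e ▸ at_res i ((EtCoh.pull pA).obj F) τ (EtCore.bcTopIso i).inv (η ≫ i) (Category.comp_id _)
        (congrArg (η ≫ ·) (bcTop_inv_proj i))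
    exact h1.trans (congrArg _ (ht K (η ≫ i)))
  have hρ₂ : At (i ≫ pA) F ρ η η (Category.comp_id η) ((η ≫ i) ≫ toStage f T)
      (by rw [Category.assoc _ (toStage f T), toStage_hom, Category.assoc]) t := by
    have := at_toComp F i pA ρ' η (Category.comp_id η) ((η ≫ i) ≫ toStage f T)
      (by rw [Category.assoc _ (toStage f T), toStage_hom]) t hρ'
    rwa [toComp_fromComp] at this
  -- on the geometric fibre
  have hσ' : val ((EtCoh.pull h₁).obj ((EtCoh.pull (i ≫ pA)).obj F)) ζ ζ (Category.comp_id ζ) σ' =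
      stalkPull h₁ ζ _ (stalkPull (i ≫ pA) η F (val F (η ≫ i ≫ pA) ((η ≫ i) ≫ toStage f T)
        (by rw [Category.assoc _ (toStage f T), toStage_hom, Category.assoc]) t)) := by
    have e : ((EtCoh.pull h₁).obj ((EtCoh.pull (i ≫ pA)).obj F)).obj.map (EtCore.bcTopIso h₁).inv.op
        (res h₁ ((EtCoh.pull (i ≫ pA)).obj F) ρ) = σ' := by
      show ((EtCoh.pull h₁).obj ((EtCoh.pull (i ≫ pA)).obj F)).obj.map _ (((EtCoh.pullPushAdj h₁).unit.app _).hom.app _ ρ) = _
      rw [hρ, ← Functor.map_comp_apply, ← op_comp, Iso.inv_hom_id, op_id, Functor.map_id_apply]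
    have h1 : At h₁ ((EtCoh.pull (i ≫ pA)).obj F) σ' ζ ζ (Category.comp_id ζ) η (Category.comp_id _) ρ :=
      e ▸ at_res h₁ ((EtCoh.pull (i ≫ pA)).obj F) ρ (EtCore.bcTopIso h₁).inv η (Category.comp_id _)
        (congrArg (ζ ≫ ·) (bcTop_inv_proj h₁))
    exact h1.trans (congrArg _ hρ₂)
  have hfin := at_toComp F h₁ (i ≫ pA) σ' ζ (Category.comp_id ζ) ((η ≫ i) ≫ toStage f T)
    (by rw [Category.assoc _ (toStage f T), toStage_hom, Category.assoc]) t hσ'
  rw [toComp_fromComp] at hfin
  exact hfin.congr (val_eq_of_eq F (by simp only [η, hmap, Category.assoc]) t)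

variable {X' Y' : Scheme.{u}} (g : Y' ⟶ Y) (f' : X' ⟶ Y') (g' : X' ⟶ X) (h : IsPullback g' f' f g)

set_option maxHeartbeats 1000000 in
/-- Base change in degree zero for proper morphisms. -/
theorem isIso_baseChange0_proper : IsIso (EtCoh.baseChange0 f g f' g' h.w F) := by
  haveI : IsProper f' := MorphismProperty.of_isPullback h ‹IsProper f›
  rw [isIso_iff_stalk]
  intro Ω _ _ η
  let G := (EtCoh.pull g').obj F
  let a := pullback.fst f' η
  let pS := pullback.snd f' η
  have hP' : IsPullback a pS f' η := IsPullback.of_hasPullback f' η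
  have hP : IsPullback (a ≫ g') pS f (η ≫ g) := hP'.paste_horiz h
  have hb := ConcreteCategory.bijective_of_isIso (stalkPull g η ((EtCoh.push f).obj F))
  -- the image of a germ and its values
  have himg : ∀ {V : Y.Etale} (v : fib (η ≫ g) V) (t : F.obj.obj (op ((EtCoh.bc f).obj V))),
      (EtCoh.stalk η).map (EtCoh.baseChange0 f g f' g' h.w F)
        (stalkPull g η ((EtCoh.push f).obj F) (germ (η ≫ g) _ v t)) =
      germ η ((EtCoh.push f').obj G) (liftFib g η v) (G.obj.map (sqHom f g f' g' h.w V).op (res g' F t)) := by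
    intro V v t
    rw [germ_stalkPull, germ_nat, baseChange0_germ]
  have hvals : ∀ {V : Y.Etale} (v : fib (η ≫ g) V) (t : F.obj.obj (op ((EtCoh.bc f).obj V)))
      (K : Type u) [Field K] [IsSepClosed K] (ζ : Spec (CommRingCat.of K) ⟶ pullback f' η),
      val G (ζ ≫ a) (ζ ≫ fibreMap f' hP'.w (liftFib g η v)) (by rw [Category.assoc, fibreMap_hom])
        (G.obj.map (sqHom f g f' g' h.w V).op (res g' F t)) =
      stalkPull g' (ζ ≫ a) F (val F ((ζ ≫ a) ≫ g') (ζ ≫ fibreMap f hP.w v)
        (by rw [Category.assoc, fibreMap_hom, Category.assoc]) t) := by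
    intro V v t K _ _ ζ
    refine at_res g' F t (sqHom f g f' g' h.w V) (ζ ≫ fibreMap f hP.w v) _ ?_
    refine (Category.assoc _ _ _).trans (congrArg (ζ ≫ ·) (pullback.hom_ext ?_ ?_))
    · refine (Category.assoc _ _ _).trans ?_
      refine (congrArg (_ ≫ ·) ((Category.assoc _ _ _).trans (sqHom_fst f g f' g' h.w V))).trans ?_
      refine (Category.assoc _ _ _).symm.trans ((congrArg (· ≫ bcFst g V) (pullback.lift_fst _ _ _)).trans ?_)
      refine (Category.assoc _ _ _).trans ((congrArg (pS ≫ ·) (pullback.lift_fst _ _ _)).trans ?_)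
      exact (pullback.lift_fst _ _ _).symm
    · have hc : bcFst g' ((EtCoh.bc f).obj V) ≫ ((EtCoh.bc f).obj V).hom =
          ((EtCoh.bc g').obj ((EtCoh.bc f).obj V)).hom ≫ g' := pullback.condition
      have hsq := MorphismProperty.Over.w (sqHom f g f' g' h.w V)
      refine (Category.assoc _ _ _).trans ((congrArg (_ ≫ ·) ((Category.assoc _ _ _).trans
        (congrArg (_ ≫ ·) hc))).trans ?_)
      refine Eq.trans ?_ (fibreMap_hom f hP.w v).symm
      rw [← Category.assoc (sqHom f g f' g' h.w V).left, hsq, ← Category.assoc]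
      exact congrArg (· ≫ g') (fibreMap_hom f' hP'.w (liftFib g η v))
  constructor
  · refine (injective_iff_map_eq_zero ((EtCoh.stalk η).map (EtCoh.baseChange0 f g f' g' h.w F)).hom).2 fun p hp => ?_
    obtain ⟨p', rfl⟩ := hb.2 p
    obtain ⟨V, v, t, rfl⟩ := germ_surjective (η ≫ g) ((EtCoh.push f).obj F) p'
    suffices h0 : germ (η ≫ g) ((EtCoh.push f).obj F) v t = germ (η ≫ g) ((EtCoh.push f).obj F) v 0 by
      rw [h0, map_zero, map_zero]
    refine germ_eq_of_vals f hP F v t 0 fun K _ _ ζ => ?_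
    replace hp : germ η ((EtCoh.push f').obj G) (liftFib g η v) (G.obj.map (sqHom f g f' g' h.w V).op (res g' F t)) =
        germ η ((EtCoh.push f').obj G) (liftFib g η v) (G.obj.map (sqHom f g f' g' h.w V).op (res g' F 0)) := by
      refine (himg v t).symm.trans (hp.trans (Eq.trans ?_ (himg v 0)))
      erw [map_zero, map_zero, map_zero]
    obtain ⟨W, m, w, hw, hWt⟩ := (germ_eq_iff η ((EtCoh.push f').obj G) _ _ _).1 hp
    have e : ∀ u : F.obj.obj (op ((EtCoh.bc f).obj V)),
        val G (ζ ≫ a) (ζ ≫ fibreMap f' hP'.w w) (by rw [Category.assoc, fibreMap_hom])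
          (G.obj.map ((EtCoh.bc f').map m).op (G.obj.map (sqHom f g f' g' h.w V).op (res g' F u))) =
        stalkPull g' (ζ ≫ a) F (val F ((ζ ≫ a) ≫ g') (ζ ≫ fibreMap f hP.w v)
          (by rw [Category.assoc, fibreMap_hom, Category.assoc]) u) := fun u => by
      refine Eq.trans ?_ (hvals v u K ζ)
      exact val_map G _ _ _ _ _ _ (by rw [Category.assoc, fibreMap_map, hw]) _
    have := (e t).symm.trans ((congrArg _ hWt).trans (e 0))
    exact (val_congr' F (Category.assoc _ _ _) rfl rfl).1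
      ((ConcreteCategory.bijective_of_isIso (stalkPull g' (ζ ≫ a) F)).1 this)
  · intro q
    obtain ⟨W', w', t', rfl⟩ := germ_surjective η ((EtCoh.push f').obj G) q
    let κ := fibreMap f' hP'.w w'
    let m₀ : EtCoh.top (pullback f' η) ⟶ (EtCoh.bc a).obj ((EtCoh.bc f').obj W') :=
      MorphismProperty.Over.homMk (pullback.lift κ (𝟙 _) (by
        exact (fibreMap_hom f' hP'.w w').trans (Category.id_comp a).symm)) (pullback.lift_snd _ _ _)
    let τ := ((EtCoh.pull a).obj G).obj.map m₀.op (res a G t')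
    obtain ⟨V, v, t, ht⟩ := exists_section_of_global f hP F (toComp F a g' τ)
    refine ⟨stalkPull g η _ (germ (η ≫ g) _ v t), (himg v t).trans ?_⟩
    let U'' := Gabber24.prod ((EtCoh.bc g).obj V) W'
    let vl : Spec (CommRingCat.of Ω) ⟶ ((EtCoh.bc g).obj V).left := (liftFib g η v).left
    let wl : Spec (CommRingCat.of Ω) ⟶ W'.left := w'.left
    have hvl : vl ≫ ((EtCoh.bc g).obj V).hom = η := Over.w (liftFib g η v)
    have hwl : wl ≫ W'.hom = η := Over.w w'
    let u'' : fib η U'' := Over.homMk (pullback.lift vl wl (hvl.trans hwl.symm)) (by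
      show pullback.lift vl wl (hvl.trans hwl.symm) ≫ pullback.fst _ _ ≫ _ = η
      exact (Category.assoc _ _ _).symm.trans ((congrArg (· ≫ _) (pullback.lift_fst _ _ _)).trans hvl))
    have hu₁ : (Scheme.pointSmallEtale η).fiber.map (prodFst ((EtCoh.bc g).obj V) W') u'' = liftFib g η v :=
      Over.OverMorphism.ext (pullback.lift_fst _ _ _)
    have hu₂ : (Scheme.pointSmallEtale η).fiber.map (prodSnd ((EtCoh.bc g).obj V) W') u'' = w' :=
      Over.OverMorphism.ext (pullback.lift_snd _ _ _)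
    rw [← hu₁, ← germ_map, ← hu₂, ← germ_map]
    refine germ_eq_of_vals f' hP' G u'' _ _ fun K _ _ ζ => ?_
    refine (val_map G (ζ ≫ a) _ _ _ (ζ ≫ fibreMap f' hP'.w (liftFib g η v)) (by rw [Category.assoc, fibreMap_hom])
      (by rw [Category.assoc, fibreMap_map]; exact congrArg (fun z => ζ ≫ fibreMap f' hP'.w z) hu₁) _).trans ?_
    refine ((hvals v t K ζ).trans ?_).trans (val_map G (ζ ≫ a) _ _ _ (ζ ≫ κ) (by rw [Category.assoc, fibreMap_hom])
      (by rw [Category.assoc, fibreMap_map]; exact congrArg (fun z => ζ ≫ fibreMap f' hP'.w z) hu₂) t').symm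
    obtain ⟨p, hp⟩ := (ConcreteCategory.bijective_of_isIso (stalkPull g' (ζ ≫ a) F)).2
      (val G (ζ ≫ a) (ζ ≫ κ) (by rw [Category.assoc, fibreMap_hom]) t')
    obtain ⟨N, y, s, hs⟩ := germ_surjective ((ζ ≫ a) ≫ g') F p
    have hτ : At a G τ ζ ζ (Category.comp_id ζ) (ζ ≫ κ) (by rw [Category.assoc, fibreMap_hom]) t' :=
      at_res a G t' m₀ (ζ ≫ κ) _ (congrArg (ζ ≫ ·) (pullback.lift_fst _ _ _))
    have hAt := at_toComp F a g' τ ζ (Category.comp_id ζ) y.left (Over.w y) s (hτ.trans (congrArg _ (by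
      rw [← hp, show val F ((ζ ≫ a) ≫ g') y.left (Over.w y) s = p from hs])))
    have h2 := hAt.val_eq (ht K ζ)
    rw [← hp]
    refine congrArg _ ?_
    exact ((val_congr' F (Category.assoc ζ a g') rfl rfl (ha := Over.w y) (hb := by rw [Category.assoc, fibreMap_hom, Category.assoc])).2 h2).symm.trans hs

end Groth.Agent.ProperPush24
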