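import Groth.Agent.Lib.ProperPush24.Stage
import Groth.Agent.Lib.AlgSpEt14.HensPt
import Mathlib.AlgebraicGeometry.Morphisms.Flat

/-!
# The strict henselization at a geometric point as an algebra with liftings
-/

universe u

open CategoryTheory CategoryTheory.Limits AlgebraicGeometry Opposite Groth.Agent.Hens

set_option backward.isDefEq.respectTransparency.types false

namespace Groth.Agent.ProperPush24

/-- Elements of the colimit of etale neighbourhoods lift to etale schemes over the scheme. -/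
theorem hasLifts_hs {Y : Scheme.{u}} {U : Y.Opens} (hU : IsAffineOpen U) {Ω : Type u} [Field Ω]
    [Algebra Γ(Y, U) Ω] :
    HasLifts (Spec.map (CommRingCat.ofHom (algebraMap Γ(Y, U) (Hs Γ(Y, U) Ω))) ≫ hU.fromSpec) := by
  let R : Type u := Γ(Y, U)
  let A := Hs R Ω
  intro c
  obtain ⟨i, x, hx⟩ := Hs.exists_of ((Scheme.ΓSpecIso (CommRingCat.of A)).hom c : A)
  obtain ⟨g, hg, hlift⟩ := Hs.exists_away i ({()} : Finset Unit) (fun _ => x)
  obtain ⟨y, hy'⟩ := hlift () (Finset.mem_singleton_self ())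
  let S := Localization.Away g
  haveI : Algebra.Etale i.S S := Algebra.Etale.of_isLocalizationAway g
  haveI : Algebra.Etale R S := Algebra.Etale.comp R i.S S
  let v : Spec (CommRingCat.of S) ⟶ Y :=
    Spec.map (CommRingCat.ofHom (algebraMap R S) : Γ(Y, U) ⟶ _) ≫ hU.fromSpec
  haveI : AlgebraicGeometry.Etale (Spec.map (CommRingCat.ofHom (algebraMap R S))) :=
    (HasRingHomProperty.Spec_iff (P := @AlgebraicGeometry.Etale)).2 (RingHom.etale_algebraMap.2 inferInstance)
  have hv : AlgebraicGeometry.Etale v := by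
    show AlgebraicGeometry.Etale (Spec.map (CommRingCat.ofHom (algebraMap R S) : Γ(Y, U) ⟶ _) ≫ hU.fromSpec)
    exact inferInstance
  let ψ : S →+* A := Hs.awayToHs i g hg
  refine ⟨⟨MorphismProperty.Over.mk ⊤ v hv, Spec.map (CommRingCat.ofHom ψ), ?_,
    inferInstanceAs (IsAffine (Spec (CommRingCat.of S)))⟩, (Scheme.ΓSpecIso (CommRingCat.of S)).inv y, ?_⟩
  · show Spec.map (CommRingCat.ofHom ψ) ≫ Spec.map (CommRingCat.ofHom (algebraMap R S) : Γ(Y, U) ⟶ _) ≫ hU.fromSpec =
      Spec.map (CommRingCat.ofHom (algebraMap R A) : Γ(Y, U) ⟶ _) ≫ hU.fromSpec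
    rw [← Category.assoc, ← Spec.map_comp]
    congr 2
    refine CommRingCat.hom_ext (RingHom.ext fun r => ?_)
    show ψ (algebraMap R S r) = algebraMap R A r
    rw [IsScalarTower.algebraMap_apply R i.S S, Hs.awayToHs_algebraMap, ← IsScalarTower.algebraMap_apply]
    exact (Hs.of i).commutes r
  · show (Spec.map (CommRingCat.ofHom ψ)).appTop ((Scheme.ΓSpecIso (CommRingCat.of S)).inv y) = c
    rw [← ConcreteCategory.comp_apply, ← Scheme.ΓSpecIso_inv_naturality, ConcreteCategory.comp_apply]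
    have : ψ y = (Scheme.ΓSpecIso (CommRingCat.of A)).hom c := by
      rw [← hx, ← hy']; rfl
    rw [show (CommRingCat.ofHom ψ) y = ψ y from rfl, this]
    exact Iso.hom_inv_id_apply _ _

/-- A geometric point factors through a strictly henselian flat neighbourhood with liftings. -/
theorem exists_model {Y : Scheme.{u}} {Ω : Type u} [Field Ω] [IsSepClosed Ω] (ξ : Spec (CommRingCat.of Ω) ⟶ Y) :
    ∃ (A : Type u) (_ : CommRing A) (_ : HenselianLocalRing A) (_ : IsSepClosed (IsLocalRing.ResidueField A))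
      (α : Spec (CommRingCat.of A) ⟶ Y) (_ : Flat α) (_ : HasLifts α) (_ : Nonempty (Stage α))
      (ζ : Spec (CommRingCat.of Ω) ⟶ Spec (CommRingCat.of (IsLocalRing.ResidueField A))),
      ζ ≫ Spec.map (CommRingCat.ofHom (IsLocalRing.residue A)) ≫ α = ξ := by
  obtain ⟨U, hU, hy, -⟩ : ∃ U : Y.Opens, IsAffineOpen U ∧ ξ default ∈ U ∧ (U : Set Y) ⊆ Set.univ :=
    exists_isAffineOpen_mem_and_subset (U := (⊤ : Y.Opens)) trivial
  let ξ₀ : Spec (CommRingCat.of Ω) ⟶ U.toScheme := IsOpenImmersion.lift U.ι ξ (by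
    rw [Scheme.Opens.range_ι]
    rintro _ ⟨z, rfl⟩
    rw [Subsingleton.elim z default]
    exact hy)
  have hξ₀ : ξ₀ ≫ U.ι = ξ := IsOpenImmersion.lift_fac _ _ _
  let φ : Γ(Y, U) ⟶ CommRingCat.of Ω := Spec.preimage (ξ₀ ≫ hU.isoSpec.hom)
  have hφ : Spec.map φ ≫ hU.fromSpec = ξ := by
    rw [Spec.map_preimage, Category.assoc, ← IsAffineOpen.isoSpec_inv_ι, Iso.hom_inv_id_assoc, hξ₀]
  let R : Type u := Γ(Y, U)
  letI : Algebra R Ω := φ.hom.toAlgebra
  let A := Hs R Ω
  let q : Ideal R := RingHom.ker (algebraMap R Ω)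
  haveI : q.IsPrime := RingHom.ker_isPrime _
  obtain ⟨_, _, -, hsh⟩ := HensPt14.exists_isStrictHenselization (R := R) (K := Ω) q (fun r => Iff.rfl)
    (Localization.AtPrime q)
  haveI : IsSepClosed (IsLocalRing.ResidueField A) := hsh.isSepClosure.sep_closed
  let α : Spec (CommRingCat.of A) ⟶ Y := Spec.map (CommRingCat.ofHom (algebraMap R A) : Γ(Y, U) ⟶ _) ≫ hU.fromSpec
  haveI : Flat (Spec.map (CommRingCat.ofHom (algebraMap R A))) :=
    (HasRingHomProperty.Spec_iff (P := @Flat)).2 (RingHom.flat_algebraMap_iff.2 inferInstance)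
  haveI : Flat α := by
    show Flat (Spec.map (CommRingCat.ofHom (algebraMap R A) : Γ(Y, U) ⟶ _) ≫ hU.fromSpec)
    exact inferInstance
  refine ⟨A, inferInstance, inferInstance, inferInstance, α, inferInstance, ?_, ?_,
    Spec.map (CommRingCat.ofHom (HensPt14.resK (R := R) (K := Ω))), ?_⟩
  · exact hasLifts_hs hU
  · exact ⟨⟨MorphismProperty.Over.mk ⊤ U.ι inferInstance, Spec.map (CommRingCat.ofHom (algebraMap R A) : Γ(Y, U) ⟶ _) ≫ hU.isoSpec.inv,
      by show (Spec.map _ ≫ hU.isoSpec.inv) ≫ U.ι = α; rw [Category.assoc, IsAffineOpen.isoSpec_inv_ι], hU⟩⟩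
  · rw [← hφ]
    show Spec.map _ ≫ Spec.map _ ≫ Spec.map (CommRingCat.ofHom (algebraMap R A) : Γ(Y, U) ⟶ _) ≫ hU.fromSpec = _
    rw [← Spec.map_comp_assoc, ← Spec.map_comp_assoc]
    congr 2
    refine CommRingCat.hom_ext (RingHom.ext fun r => ?_)
    exact (Hs.res (R := R) (K := Ω)).commutes r

end Groth.Agent.ProperPush24
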