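import Groth.Agent.Lib.ConnDescent24.Core
import Groth.Agent.Lib.EtStalk.HpullComp

/-!
# Values of sections of inverse images
-/

universe u

open CategoryTheory CategoryTheory.Limits AlgebraicGeometry Opposite

set_option backward.isDefEq.respectTransparency.types false

namespace Groth.Agent.ProperPush24

open Groth.Agent.EtStalk Groth.Agent.Gabber24 Groth.Agent.ConnDescent24

variable {P Q T : Scheme.{u}}

/-- A section of `e⁻¹ F` has at a geometric point the value of a section of `F`. -/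
def At (e : P ⟶ T) (F : EtCoh.Ab T) {U : P.Etale} (σ : ((EtCoh.pull e).obj F).obj.obj (op U))
    {Ω : Type u} [Field Ω] [IsSepClosed Ω] (ζ : Spec (CommRingCat.of Ω) ⟶ P)
    (a : Spec (CommRingCat.of Ω) ⟶ U.left) (ha : a ≫ U.hom = ζ) {N : T.Etale}
    (n : Spec (CommRingCat.of Ω) ⟶ N.left) (hn : n ≫ N.hom = ζ ≫ e) (s : F.obj.obj (op N)) : Prop :=
  val ((EtCoh.pull e).obj F) ζ a ha σ = stalkPull e ζ F (val F (ζ ≫ e) n hn s)

variable (e : P ⟶ T) (F : EtCoh.Ab T) {U : P.Etale} (σ : ((EtCoh.pull e).obj F).obj.obj (op U))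
  {Ω : Type u} [Field Ω] [IsSepClosed Ω] (ζ : Spec (CommRingCat.of Ω) ⟶ P)
  (a : Spec (CommRingCat.of Ω) ⟶ U.left) (ha : a ≫ U.hom = ζ)

lemma exists_at : ∃ (N : T.Etale) (n : Spec (CommRingCat.of Ω) ⟶ N.left) (hn : n ≫ N.hom = ζ ≫ e)
    (s : F.obj.obj (op N)), At e F σ ζ a ha n hn s := by
  obtain ⟨p, hp⟩ := (ConcreteCategory.bijective_of_isIso (stalkPull e ζ F)).2
    (val ((EtCoh.pull e).obj F) ζ a ha σ)
  obtain ⟨N, y, s, hs⟩ := germ_surjective (ζ ≫ e) F p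
  refine ⟨N, y.left, Over.w y, s, ?_⟩
  show _ = stalkPull e ζ F _
  rw [show val F (ζ ≫ e) y.left (Over.w y) s = p from hs, hp]

variable {e F σ ζ a ha}

lemma At.val_eq {N N' : T.Etale} {n : Spec (CommRingCat.of Ω) ⟶ N.left} {hn : n ≫ N.hom = ζ ≫ e}
    {s : F.obj.obj (op N)} {n' : Spec (CommRingCat.of Ω) ⟶ N'.left} {hn' : n' ≫ N'.hom = ζ ≫ e}
    {s' : F.obj.obj (op N')} (h : At e F σ ζ a ha n hn s) (h' : At e F σ ζ a ha n' hn' s') :
    val F (ζ ≫ e) n hn s = val F (ζ ≫ e) n' hn' s' :=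
  (ConcreteCategory.bijective_of_isIso (stalkPull e ζ F)).1 (h.symm.trans h')

lemma At.congr {N N' : T.Etale} {n : Spec (CommRingCat.of Ω) ⟶ N.left} {hn : n ≫ N.hom = ζ ≫ e}
    {s : F.obj.obj (op N)} {n' : Spec (CommRingCat.of Ω) ⟶ N'.left} {hn' : n' ≫ N'.hom = ζ ≫ e}
    {s' : F.obj.obj (op N')} (h : At e F σ ζ a ha n hn s)
    (h' : val F (ζ ≫ e) n hn s = val F (ζ ≫ e) n' hn' s') : At e F σ ζ a ha n' hn' s' :=
  h.trans (congrArg _ h')

variable (e F)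

/-- Restricted sections have the values of the sections. -/
lemma at_res {N : T.Etale} (s : F.obj.obj (op N)) (m : U ⟶ (EtCoh.bc e).obj N)
    (n : Spec (CommRingCat.of Ω) ⟶ N.left) (hn : n ≫ N.hom = ζ ≫ e) (hmn : a ≫ m.left ≫ bcFst e N = n) :
    At e F (((EtCoh.pull e).obj F).obj.map m.op (res e F s)) ζ a ha n hn s := by
  let l : Spec (CommRingCat.of Ω) ⟶ ((EtCoh.bc e).obj N).left := a ≫ m.left
  have hl : l ≫ ((EtCoh.bc e).obj N).hom = ζ := by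
    rw [Category.assoc, MorphismProperty.Over.w, ha]
  show _ = _
  rw [val_map ((EtCoh.pull e).obj F) ζ m a ha l hl rfl]
  exact val_res e F ζ n hn l hl (by rw [Category.assoc, hmn]) s

/-- Sections with the same values are equal. -/
lemma ext_val {G : EtCoh.Ab P} {σ τ : G.obj.obj (op U)}
    (h : ∀ (Ω : Type u) [Field Ω] [IsSepClosed Ω] (ζ : Spec (CommRingCat.of Ω) ⟶ P)
      (a : Spec (CommRingCat.of Ω) ⟶ U.left) (ha : a ≫ U.hom = ζ), val G ζ a ha σ = val G ζ a ha τ) :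
    σ = τ := by
  refine eq_of_agree G (U := U) fun u => ?_
  obtain ⟨φ, hφ⟩ := exists_fib U u
  rw [← hφ]
  exact (mem_agree_iff_germ G φ _ _).2 (h _ _ φ.left (Over.w φ))

variable (e₁ : P ⟶ Q) (e₂ : Q ⟶ T)

/-- A section of the composite inverse image from an iterated one. -/
noncomputable abbrev toComp {V : P.Etale} (τ : ((EtCoh.pull e₁).obj ((EtCoh.pull e₂).obj F)).obj.obj (op V)) :
    ((EtCoh.pull (e₁ ≫ e₂)).obj F).obj.obj (op V) :=
  ((EtCore.pullComp e₁ e₂).inv.app F).hom.app (op V) τ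

lemma toComp_unit {V : T.Etale} (s : F.obj.obj (op V)) :
    ((EtCoh.pull (e₁ ≫ e₂)).obj F).obj.map
      ((MorphismProperty.Over.pullbackComp (P := EtCoh.etaleMP) (Q := ⊤) e₁ e₂).hom.app V).op
      (toComp F e₁ e₂ (((EtCoh.pullPushAdj e₁).unit.app ((EtCoh.pull e₂).obj F)).hom.app (op ((EtCoh.bc e₂).obj V))
        (((EtCoh.pullPushAdj e₂).unit.app F).hom.app (op V) s))) =
      ((EtCoh.pullPushAdj (e₁ ≫ e₂)).unit.app F).hom.app (op V) s := by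
  have h := Adjunction.homEquiv_leftAdjointUniq_hom_app
    (((EtCoh.pullPushAdj e₂).comp (EtCoh.pullPushAdj e₁)).ofNatIsoRight (EtCoh.pushComp e₂ e₁))
    (EtCoh.pullPushAdj (e₁ ≫ e₂)) F
  rw [← Adjunction.leftAdjointUniq_inv_app] at h
  rw [Adjunction.homEquiv_unit] at h
  have h' := congrArg (fun t : F ⟶ (EtCoh.push (e₁ ≫ e₂)).obj ((EtCoh.pull (e₁ ≫ e₂)).obj F) =>
    t.hom.app (op V) s) h
  refine Eq.trans ?_ h'
  refine (ConcreteCategory.congr_hom (((EtCore.pullComp e₁ e₂).inv.app F).hom.naturality _) _).symm.trans ?_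
  rfl

lemma pullbackComp_proj (N : T.Etale) :
    ((MorphismProperty.Over.pullbackComp (P := EtCoh.etaleMP) (Q := ⊤) e₁ e₂).hom.app N).left ≫
      bcFst e₁ ((EtCoh.bc e₂).obj N) ≫ bcFst e₂ N = bcFst (e₁ ≫ e₂) N :=
  MorphismProperty.Over.pullbackComp_left_fst_fst e₁ e₂ N

lemma bc_bc_hom_ext {N : T.Etale} {S : Scheme.{u}} {l l' : S ⟶ ((EtCoh.bc e₁).obj ((EtCoh.bc e₂).obj N)).left}
    (h₁ : l ≫ bcFst e₁ ((EtCoh.bc e₂).obj N) ≫ bcFst e₂ N = l' ≫ bcFst e₁ ((EtCoh.bc e₂).obj N) ≫ bcFst e₂ N)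
    (h₂ : l ≫ ((EtCoh.bc e₁).obj ((EtCoh.bc e₂).obj N)).hom = l' ≫ ((EtCoh.bc e₁).obj ((EtCoh.bc e₂).obj N)).hom) :
    l = l' := by
  have hc : bcFst e₁ ((EtCoh.bc e₂).obj N) ≫ ((EtCoh.bc e₂).obj N).hom =
      ((EtCoh.bc e₁).obj ((EtCoh.bc e₂).obj N)).hom ≫ e₁ := pullback.condition
  refine pullback.hom_ext (pullback.hom_ext ((Category.assoc _ _ _).trans (h₁.trans (Category.assoc _ _ _).symm)) ?_) h₂
  exact ((Category.assoc _ _ _).trans ((congrArg (l ≫ ·) hc).trans (((Category.assoc _ _ _).symm.trans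
    ((congrArg (· ≫ e₁) h₂).trans (Category.assoc _ _ _))).trans ((congrArg (l' ≫ ·) hc.symm).trans
    (Category.assoc _ _ _).symm))))

/-- Values of the composite of an iterated inverse image. -/
theorem at_toComp {V : P.Etale} (τ : ((EtCoh.pull e₁).obj ((EtCoh.pull e₂).obj F)).obj.obj (op V))
    (b : Spec (CommRingCat.of Ω) ⟶ V.left) (hb : b ≫ V.hom = ζ) {N : T.Etale}
    (n : Spec (CommRingCat.of Ω) ⟶ N.left) (hn : n ≫ N.hom = (ζ ≫ e₁) ≫ e₂) (s : F.obj.obj (op N))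
    (h : val ((EtCoh.pull e₁).obj ((EtCoh.pull e₂).obj F)) ζ b hb τ =
      stalkPull e₁ ζ _ (stalkPull e₂ (ζ ≫ e₁) F (val F ((ζ ≫ e₁) ≫ e₂) n hn s))) :
    At (e₁ ≫ e₂) F (toComp F e₁ e₂ τ) ζ b hb n (hn.trans (Category.assoc _ _ _)) s := by
  let φ : fib ((ζ ≫ e₁) ≫ e₂) N := Over.homMk n hn
  let ψ : fib (ζ ≫ e₁ ≫ e₂) N := Over.homMk n (hn.trans (Category.assoc _ _ _))
  let x : fib ζ ((EtCoh.bc e₁).obj ((EtCoh.bc e₂).obj N)) := liftFib e₁ ζ (liftFib e₂ (ζ ≫ e₁) φ)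
  have h1 : germ ζ ((EtCoh.pull e₁).obj ((EtCoh.pull e₂).obj F)) (Over.homMk b hb : fib ζ V) τ =
      germ ζ _ x (((EtCoh.pullPushAdj e₁).unit.app ((EtCoh.pull e₂).obj F)).hom.app (op ((EtCoh.bc e₂).obj N))
        (((EtCoh.pullPushAdj e₂).unit.app F).hom.app (op N) s)) :=
    (h.trans (congrArg _ (germ_stalkPull e₂ (ζ ≫ e₁) F φ s))).trans (germ_stalkPull e₁ ζ _ _ _)
  have h2 := congrArg ((EtCoh.stalk ζ).map ((EtCore.pullComp e₁ e₂).inv.app F)) h1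
  erw [germ_nat, germ_nat] at h2
  refine h2.trans (Eq.trans ?_ (germ_stalkPull (e₁ ≫ e₂) ζ F ψ s).symm)
  rw [← toComp_unit F e₁ e₂ s]
  refine Eq.trans ?_ (germ_map ζ ((EtCoh.pull (e₁ ≫ e₂)).obj F) _ _ _).symm
  refine congrArg (fun z => germ ζ ((EtCoh.pull (e₁ ≫ e₂)).obj F) z _) (Over.OverMorphism.ext ?_)
  let c := ((MorphismProperty.Over.pullbackComp (P := EtCoh.etaleMP) (Q := ⊤) e₁ e₂).hom.app N)
  let L : Spec (CommRingCat.of Ω) ⟶ ((EtCoh.bc (e₁ ≫ e₂)).obj N).left := (liftFib (e₁ ≫ e₂) ζ ψ).left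
  show x.left = L ≫ c.left
  have hL : L ≫ ((EtCoh.bc (e₁ ≫ e₂)).obj N).hom = ζ := Over.w (liftFib (e₁ ≫ e₂) ζ ψ)
  have hx : (x.left : Spec (CommRingCat.of Ω) ⟶ ((EtCoh.bc e₁).obj ((EtCoh.bc e₂).obj N)).left) ≫
      ((EtCoh.bc e₁).obj ((EtCoh.bc e₂).obj N)).hom = ζ := Over.w x
  refine bc_bc_hom_ext e₁ e₂ ?_ ?_
  · refine Eq.trans ?_ ((Category.assoc L c.left _).trans (congrArg (L ≫ ·) (pullbackComp_proj e₁ e₂ N))).symm
    refine Eq.trans ?_ (pullback.lift_fst _ _ _).symm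
    exact (Category.assoc _ _ _).symm.trans ((congrArg (· ≫ pullback.fst N.hom e₂) (pullback.lift_fst _ _ _)).trans
      (pullback.lift_fst _ _ _))
  · refine hx.trans (hL.symm.trans ?_)
    exact (congrArg (L ≫ ·) (MorphismProperty.Over.w c).symm).trans (Category.assoc L c.left _).symm

/-- An iterated section from a composite one. -/
noncomputable abbrev fromComp {V : P.Etale} (σ : ((EtCoh.pull (e₁ ≫ e₂)).obj F).obj.obj (op V)) :
    ((EtCoh.pull e₁).obj ((EtCoh.pull e₂).obj F)).obj.obj (op V) :=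
  ((EtCore.pullComp e₁ e₂).hom.app F).hom.app (op V) σ

lemma toComp_fromComp {V : P.Etale} (σ : ((EtCoh.pull (e₁ ≫ e₂)).obj F).obj.obj (op V)) :
    toComp F e₁ e₂ (fromComp F e₁ e₂ σ) = σ :=
  congrArg (fun t : (EtCoh.pull (e₁ ≫ e₂)).obj F ⟶ _ => t.hom.app (op V) σ) ((EtCore.pullComp e₁ e₂).hom_inv_id_app F)

/-- Values of an iterated section from those of the composite. -/
theorem val_of_at_toComp {V : P.Etale} (τ : ((EtCoh.pull e₁).obj ((EtCoh.pull e₂).obj F)).obj.obj (op V))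
    (b : Spec (CommRingCat.of Ω) ⟶ V.left) (hb : b ≫ V.hom = ζ) {N : T.Etale}
    (n : Spec (CommRingCat.of Ω) ⟶ N.left) (hn : n ≫ N.hom = (ζ ≫ e₁) ≫ e₂) (s : F.obj.obj (op N))
    (h : At (e₁ ≫ e₂) F (toComp F e₁ e₂ τ) ζ b hb n (hn.trans (Category.assoc _ _ _)) s) :
    val ((EtCoh.pull e₁).obj ((EtCoh.pull e₂).obj F)) ζ b hb τ =
      stalkPull e₁ ζ _ (stalkPull e₂ (ζ ≫ e₁) F (val F ((ζ ≫ e₁) ≫ e₂) n hn s)) := by
  obtain ⟨p, hp⟩ := (ConcreteCategory.bijective_of_isIso (stalkPull e₁ ζ ((EtCoh.pull e₂).obj F))).2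
    (val ((EtCoh.pull e₁).obj ((EtCoh.pull e₂).obj F)) ζ b hb τ)
  obtain ⟨p', hp'⟩ := (ConcreteCategory.bijective_of_isIso (stalkPull e₂ (ζ ≫ e₁) F)).2 p
  obtain ⟨N', y, s', hs'⟩ := germ_surjective ((ζ ≫ e₁) ≫ e₂) F p'
  have hval : val ((EtCoh.pull e₁).obj ((EtCoh.pull e₂).obj F)) ζ b hb τ =
      stalkPull e₁ ζ _ (stalkPull e₂ (ζ ≫ e₁) F (val F ((ζ ≫ e₁) ≫ e₂) y.left (Over.w y) s')) := by
    rw [show val F ((ζ ≫ e₁) ≫ e₂) y.left (Over.w y) s' = p' from hs', hp', hp]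
  have h' := At.val_eq (at_toComp F e₁ e₂ τ b hb _ _ s' hval) h
  rw [hval, (val_congr' F (Category.assoc ζ e₁ e₂) rfl rfl).2 h']

end Groth.Agent.ProperPush24
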