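import Groth.Agent.Lib.Gabber24.Same
import Groth.Agent.Lib.GrpdB.Topology
import Mathlib.AlgebraicGeometry.Morphisms.Affine
import Mathlib.AlgebraicGeometry.Morphisms.UniversallyOpen
import Mathlib.Algebra.Category.Ring.Constructions

/-!
# Etale neighbourhoods of the spectrum of a flat local algebra

Opens and emptiness descend to etale neighbourhoods through which the elements of the algebra lift.
-/

universe u

open CategoryTheory CategoryTheory.Limits AlgebraicGeometry Opposite TensorProduct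

set_option backward.isDefEq.respectTransparency.types false

namespace Groth.Agent.ProperPush24

open Groth.Agent.Gabber24

variable {Y : Scheme.{u}} {A : Type u} [CommRing A] [IsLocalRing A] (α : Spec (CommRingCat.of A) ⟶ Y)

/-- An affine etale scheme over `Y` receiving `Spec A`. -/
structure Stage where
  V : Y.Etale
  a : Spec (CommRingCat.of A) ⟶ V.left
  w : a ≫ V.hom = α
  affine : IsAffine V.left

/-- Every element of `A` lifts to a stage. -/
def HasLifts : Prop :=
  ∀ c : Γ(Spec (CommRingCat.of A), ⊤), ∃ (T : Stage α) (s : Γ(T.V.left, ⊤)), T.a.appTop s = c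

variable {α}

/-- The closed point of a stage. -/
noncomputable def Stage.pt (T : Stage α) : T.V.left := T.a (IsLocalRing.closedPoint A)

lemma range_subset_of_closedPoint {Z : Scheme.{u}} (a : Spec (CommRingCat.of A) ⟶ Z) (O : Z.Opens)
    (h : a (IsLocalRing.closedPoint A) ∈ O) : Set.range a ⊆ Set.range O.ι := by
  rw [Scheme.Opens.range_ι]
  rintro _ ⟨x, rfl⟩
  exact ((IsLocalRing.specializes_closedPoint x).map a.continuous).mem_open O.2 h

lemma exists_affine_stage (V : Y.Etale) (a : Spec (CommRingCat.of A) ⟶ V.left) (w : a ≫ V.hom = α) :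
    ∃ (T : Stage α) (m : T.V ⟶ V), T.a ≫ m.left = a := by
  obtain ⟨O, hO, hx, -⟩ : ∃ O : V.left.Opens, IsAffineOpen O ∧ a (IsLocalRing.closedPoint A) ∈ O ∧
      (O : Set V.left) ⊆ Set.univ :=
    exists_isAffineOpen_mem_and_subset (U := (⊤ : V.left.Opens)) trivial
  let b : Spec (CommRingCat.of A) ⟶ O.toScheme :=
    IsOpenImmersion.lift O.ι a (range_subset_of_closedPoint a O hx)
  have hb : b ≫ O.ι = a := IsOpenImmersion.lift_fac _ _ _
  refine ⟨⟨EtSite.sub V O, b, ?_, hO⟩, EtSite.subHom V O, hb⟩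
  show b ≫ O.ι ≫ V.hom = α
  rw [← Category.assoc, hb, w]

lemma Stage.exists_dominate (T T' : Stage α) :
    ∃ (T'' : Stage α) (m : T''.V ⟶ T.V) (m' : T''.V ⟶ T'.V), T''.a ≫ m.left = T.a ∧ T''.a ≫ m'.left = T'.a := by
  let a : Spec (CommRingCat.of A) ⟶ (Gabber24.prod T.V T'.V).left :=
    pullback.lift T.a T'.a (T.w.trans T'.w.symm)
  obtain ⟨T'', m, hm⟩ := exists_affine_stage (α := α) (Gabber24.prod T.V T'.V) a (by
    show a ≫ pullback.fst _ _ ≫ T.V.hom = α
    exact (Category.assoc _ _ _).symm.trans ((congrArg (· ≫ T.V.hom) (pullback.lift_fst _ _ _)).trans T.w))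
  refine ⟨T'', m ≫ prodFst _ _, m ≫ prodSnd _ _, ?_, ?_⟩
  · rw [show (m ≫ prodFst T.V T'.V).left = m.left ≫ (prodFst T.V T'.V).left from rfl, ← Category.assoc, hm]
    exact pullback.lift_fst _ _ _
  · rw [show (m ≫ prodSnd T.V T'.V).left = m.left ≫ (prodSnd T.V T'.V).left from rfl, ← Category.assoc, hm]
    exact pullback.lift_snd _ _ _

lemma exists_stage_list (hL : HasLifts α) (T₀ : Stage α) : ∀ l : List Γ(Spec (CommRingCat.of A), ⊤),
    ∃ (T : Stage α) (m : T.V ⟶ T₀.V), T.a ≫ m.left = T₀.a ∧ ∀ c ∈ l, ∃ s, T.a.appTop s = c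
  | [] => ⟨T₀, 𝟙 _, Category.comp_id _, fun c h => absurd h List.not_mem_nil⟩
  | c :: l => by
    obtain ⟨T, m, hm, hl⟩ := exists_stage_list hL T₀ l
    obtain ⟨T', s, hs⟩ := hL c
    obtain ⟨T'', n, n', hn, hn'⟩ := T.exists_dominate T'
    refine ⟨T'', n ≫ m, by rw [show (n ≫ m).left = n.left ≫ m.left from rfl, ← Category.assoc, hn, hm], ?_⟩
    intro d hd
    rcases List.mem_cons.1 hd with rfl | hd
    · exact ⟨n'.left.appTop s, by rw [← hs, ← hn']; rfl⟩
    · obtain ⟨t, rfl⟩ := hl d hd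
      exact ⟨n.left.appTop t, by rw [← hn]; rfl⟩

theorem flat_stage [Flat α] (T : Stage α) : Flat T.a := by
  haveI : AlgebraicGeometry.Etale T.V.hom := T.V.prop
  let c : Spec (CommRingCat.of A) ⟶ pullback T.V.hom α := pullback.lift T.a (𝟙 _) (by rw [T.w, Category.id_comp])
  have hc : c ≫ pullback.snd T.V.hom α = 𝟙 _ := pullback.lift_snd _ _ _
  haveI : AlgebraicGeometry.Etale (c ≫ pullback.snd T.V.hom α) := by rw [hc]; infer_instance
  haveI : AlgebraicGeometry.Etale c := AlgebraicGeometry.Etale.of_comp c (pullback.snd T.V.hom α)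
  haveI : Flat c := inferInstance
  rw [← show c ≫ pullback.fst T.V.hom α = T.a from pullback.lift_fst _ _ _]
  infer_instance

/-- A closed set which disappears over `Spec A` disappears over a neighbourhood of the closed point. -/
theorem exists_open_disjoint [Flat α] (T : Stage α) {W : Scheme.{u}} (p : W ⟶ T.V.left) [QuasiCompact p]
    {C : Set W} (hC : IsClosed C) (h : ∀ w : (pullback p T.a : Scheme.{u}), pullback.fst p T.a w ∉ C) :
    ∃ O : T.V.left.Opens, T.pt ∈ O ∧ ∀ c ∈ C, p c ∉ O := by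
  haveI := flat_stage T
  refine ⟨⟨(closure (p '' C))ᶜ, isClosed_closure.isOpen_compl⟩, fun hmem => ?_,
    fun c hc hm => hm (subset_closure ⟨c, hc, rfl⟩)⟩
  obtain ⟨z, hz, hsp⟩ := GrpdB.exists_specializes_of_mem_closure_image p hC hmem
  obtain ⟨P, -, hP⟩ := (Flat.generalizingMap T.a) hsp
  obtain ⟨w, hw, -⟩ := Scheme.Pullback.exists_preimage_pullback (f := p) (g := T.a) z P hP.symm
  exact h w (hw ▸ hz)

lemma mem_subring_of_isPushout {R B C P : CommRingCat.{u}} {f : R ⟶ B} {g : R ⟶ C} {i : B ⟶ P} {j : C ⟶ P}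
    (h : IsPushout f g i j) (S : Subring P) (hi : ∀ b, i b ∈ S) (hj : ∀ c, j c ∈ S) (x : P) : x ∈ S := by
  let k : B ⟶ CommRingCat.of S := CommRingCat.ofHom (i.hom.codRestrict S hi)
  let l : C ⟶ CommRingCat.of S := CommRingCat.ofHom (j.hom.codRestrict S hj)
  have hw : f ≫ k = g ≫ l := by
    ext r
    exact congr($(h.w) r)
  have : h.desc k l hw ≫ CommRingCat.ofHom S.subtype = 𝟙 P := h.hom_ext
    (by rw [IsPushout.inl_desc_assoc, Category.comp_id]; rfl)
    (by rw [IsPushout.inr_desc_assoc, Category.comp_id]; rfl)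
  have hx : ((h.desc k l hw x : S) : P) = x := congr($this x)
  exact hx ▸ (h.desc k l hw x : S).2

/-- The comparison map to the pullback at a finer stage. -/
noncomputable def cmp {W : Scheme.{u}} {T₀ T : Stage α} (p : W ⟶ T₀.V.left) (m : T.V ⟶ T₀.V)
    (hm : T.a ≫ m.left = T₀.a) : pullback p T₀.a ⟶ pullback p m.left :=
  pullback.lift (pullback.fst p T₀.a) (pullback.snd p T₀.a ≫ T.a) (by
    rw [Category.assoc, hm]; exact pullback.condition)

/-- An open subset over `Spec A` contains a neighbourhood coming from a stage. -/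
theorem exists_open_stage (hL : HasLifts α) (T₀ : Stage α) {W : Scheme.{u}} (p : W ⟶ T₀.V.left)
    {M : Set (pullback p T₀.a : Scheme.{u})} (hM : IsOpen M) (z : (pullback p T₀.a : Scheme.{u})) (hz : z ∈ M) :
    ∃ (T : Stage α) (m : T.V ⟶ T₀.V) (hm : T.a ≫ m.left = T₀.a) (O : (pullback p m.left).Opens),
      IsAffineOpen O ∧ cmp p m hm z ∈ O ∧ ∀ x, cmp p m hm x ∈ O → x ∈ M := by
  haveI : IsAffine T₀.V.left := T₀.affine
  obtain ⟨U, hU, hzU, -⟩ : ∃ U : W.Opens, IsAffineOpen U ∧ pullback.fst p T₀.a z ∈ U ∧ (U : Set W) ⊆ Set.univ :=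
    exists_isAffineOpen_mem_and_subset (U := (⊤ : W.Opens)) trivial
  haveI : IsAffine U.toScheme := hU
  let P := pullback (U.ι ≫ p) T₀.a
  let ι : P ⟶ pullback p T₀.a := pullback.map _ _ _ _ U.ι (𝟙 _) (𝟙 _) (by simp) (by simp)
  haveI : IsOpenImmersion ι := by simp only [ι]; infer_instance
  have hι : Set.range ι = pullback.fst p T₀.a ⁻¹' U := by
    simp only [ι]
    rw [Scheme.Pullback.range_map, Scheme.Opens.range_ι]
    simp
  haveI : IsAffine P := inferInstance
  obtain ⟨z', rfl⟩ := hι.ge hzU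
  obtain ⟨h, hhM, hzh⟩ := (isAffineOpen_top P).exists_basicOpen_le
    (V := (⟨ι ⁻¹' M, hM.preimage ι.continuous⟩ : P.Opens)) ⟨z', hz⟩ trivial
  have hpo := isPushout_appTop_of_isPullback (IsPullback.of_hasPullback (U.ι ≫ p) T₀.a)
  -- finitely many elements of `A` are involved
  let S : Subring Γ(P, ⊤) :=
    { carrier := {x | ∃ l : List Γ(Spec (CommRingCat.of A), ⊤), ∀ (T : Stage α) (m : T.V ⟶ T₀.V) (hm : T.a ≫ m.left = T₀.a),
        (∀ c ∈ l, ∃ s, T.a.appTop s = c) → ∃ y : Γ(pullback (U.ι ≫ p) m.left, ⊤),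
          (cmp (U.ι ≫ p) m hm).appTop y = x}
      zero_mem' := ⟨[], fun T m hm _ => ⟨0, map_zero _⟩⟩
      one_mem' := ⟨[], fun T m hm _ => ⟨1, map_one _⟩⟩
      add_mem' := fun {x y} ⟨l, hl⟩ ⟨l', hl'⟩ => ⟨l ++ l', fun T m hm hc => by
        obtain ⟨a, rfl⟩ := hl T m hm fun c hcl => hc c (List.mem_append_left _ hcl)
        obtain ⟨b, rfl⟩ := hl' T m hm fun c hcl => hc c (List.mem_append_right _ hcl)
        exact ⟨a + b, map_add _ _ _⟩⟩
      mul_mem' := fun {x y} ⟨l, hl⟩ ⟨l', hl'⟩ => ⟨l ++ l', fun T m hm hc => by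
        obtain ⟨a, rfl⟩ := hl T m hm fun c hcl => hc c (List.mem_append_left _ hcl)
        obtain ⟨b, rfl⟩ := hl' T m hm fun c hcl => hc c (List.mem_append_right _ hcl)
        exact ⟨a * b, map_mul _ _ _⟩⟩
      neg_mem' := fun {x} ⟨l, hl⟩ => ⟨l, fun T m hm hc => by
        obtain ⟨a, rfl⟩ := hl T m hm hc
        exact ⟨-a, map_neg _ _⟩⟩ }
  obtain ⟨l, hl⟩ : h ∈ S := mem_subring_of_isPushout hpo S
    (fun b => ⟨[], fun T m hm _ => ⟨(pullback.fst (U.ι ≫ p) m.left).appTop b, by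
      rw [← ConcreteCategory.comp_apply, ← Scheme.Hom.comp_appTop, cmp, pullback.lift_fst]⟩⟩)
    (fun c => ⟨[c], fun T m hm hc => by
      obtain ⟨s, rfl⟩ := hc c List.mem_cons_self
      refine ⟨(pullback.snd (U.ι ≫ p) m.left).appTop s, ?_⟩
      rw [← ConcreteCategory.comp_apply, ← Scheme.Hom.comp_appTop, cmp, pullback.lift_snd, Scheme.Hom.comp_appTop]
      rfl⟩) h
  obtain ⟨T, m, hm, hc⟩ := exists_stage_list hL T₀ l
  obtain ⟨y, hy⟩ := hl T m hm hc
  haveI : IsAffine T.V.left := T.affine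
  let Q := pullback (U.ι ≫ p) m.left
  let ι' : Q ⟶ pullback p m.left := pullback.map _ _ _ _ U.ι (𝟙 _) (𝟙 _) (by simp) (by simp)
  haveI : IsOpenImmersion ι' := by simp only [ι']; infer_instance
  have hcomm : ι ≫ cmp p m hm = cmp (U.ι ≫ p) m hm ≫ ι' := by
    apply pullback.hom_ext <;>
      simp [ι, ι', cmp, pullback.lift_fst, pullback.lift_snd, pullback.lift_fst_assoc, pullback.lift_snd_assoc]
  refine ⟨T, m, hm, ι' ''ᵁ (Q.basicOpen y), ((isAffineOpen_top Q).basicOpen y).image_of_isOpenImmersion ι', ?_,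
    fun x hx => ?_⟩
  · refine ⟨cmp (U.ι ≫ p) m hm z', ?_, ?_⟩
    · show z' ∈ cmp (U.ι ≫ p) m hm ⁻¹ᵁ Q.basicOpen y
      rw [Scheme.preimage_basicOpen_top, hy]
      exact hzh
    · exact (Scheme.Hom.comp_apply _ _ _).symm.trans
        ((congrArg (fun t : P ⟶ pullback p m.left => t z') hcomm.symm).trans (Scheme.Hom.comp_apply _ _ _))
  · obtain ⟨q, hq, hqx'⟩ := hx
    have hqx : ι' q = cmp p m hm x := hqx'
    have hxU : x ∈ Set.range ι := by
      rw [hι]
      show pullback.fst p T₀.a x ∈ U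
      rw [show pullback.fst p T₀.a = cmp p m hm ≫ pullback.fst p m.left from (pullback.lift_fst _ _ _).symm,
        Scheme.Hom.comp_apply, ← hqx, ← Scheme.Hom.comp_apply, show ι' ≫ pullback.fst p m.left = _ from pullback.lift_fst _ _ _,
        Scheme.Hom.comp_apply]
      exact (pullback.fst (U.ι ≫ p) m.left q).2
    obtain ⟨x', rfl⟩ := hxU
    rw [← Scheme.Hom.comp_apply, hcomm, Scheme.Hom.comp_apply] at hqx
    have := ι'.isOpenEmbedding.injective hqx
    subst this
    refine hhM ?_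
    rw [← hy, ← Scheme.preimage_basicOpen_top]
    exact hq

end Groth.Agent.ProperPush24
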