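import Groth.Agent.Lib.Gabber24.Same
import Mathlib.CategoryTheory.Sites.IsSheafFor

/-!
# Gluing sections with equal values
-/

universe u

open CategoryTheory CategoryTheory.Limits AlgebraicGeometry Opposite

set_option backward.isDefEq.respectTransparency.types false

namespace Groth.Agent.ProperPush24

open Groth.Agent.EtStalk Groth.Agent.Gabber24

/-- Sections on a covering family with the same values at geometric points glue. -/
theorem exists_glue {X : Scheme.{u}} (F : EtCoh.Ab X) {U : X.Etale} {κ : Type*} (M : κ → X.Etale)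
    (g : ∀ k, M k ⟶ U) (s : ∀ k, F.obj.obj (op (M k))) (hcov : ∀ z : U.left, ∃ k y, (g k).left y = z)
    (h : ∀ (k l : κ) (K : Type u) [Field K] [IsSepClosed K] (ζ : Spec (CommRingCat.of K) ⟶ X)
      (a : Spec (CommRingCat.of K) ⟶ (M k).left) (b : Spec (CommRingCat.of K) ⟶ (M l).left)
      (_ : a ≫ (g k).left = b ≫ (g l).left) (ha : a ≫ (M k).hom = ζ) (hb : b ≫ (M l).hom = ζ),
      val F ζ a ha (s k) = val F ζ b hb (s l)) :
    ∃ t : F.obj.obj (op U), ∀ k, F.obj.map (g k).op t = s k := by
  have hS : Sieve.ofArrows M g ∈ Scheme.smallEtaleTopology X U := (EtSite.mem_et_iff _ _).2 fun z => by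
    obtain ⟨k, y, hy⟩ := hcov z
    exact ⟨M k, g k, y, Sieve.ofArrows_mk _ (f := g) k, hy⟩
  have hsh : Presieve.IsSheafFor (F.obj ⋙ forget _) (Presieve.ofArrows M g) :=
    (Presieve.isSheafFor_iff_generate _).2 (((isSheaf_iff_isSheaf_of_type _ _).1
      ((Presheaf.isSheaf_iff_isSheaf_forget _ F.obj (forget _)).1 F.property)) _ hS)
  obtain ⟨t, ht, -⟩ := (Presieve.isSheafFor_arrows_iff _ _).1 hsh s (by
    intro k l Z gk gl e
    show F.obj.map gk.op (s k) = F.obj.map gl.op (s l)
    refine eq_of_agree F (U := Z) fun z => ?_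
    obtain ⟨φ, hφ⟩ := exists_fib Z z
    rw [← hφ]
    refine (mem_agree_iff_germ F φ _ _).2 ?_
    let c : Spec (CommRingCat.of _) ⟶ Z.left := φ.left
    have hk : (c ≫ gk.left) ≫ (M k).hom = geomPt X (Z.hom z) := by
      rw [Category.assoc, MorphismProperty.Over.w]; exact Over.w φ
    have hl : (c ≫ gl.left) ≫ (M l).hom = geomPt X (Z.hom z) := by
      rw [Category.assoc, MorphismProperty.Over.w]; exact Over.w φ
    have e' : gk.left ≫ (g k).left = gl.left ≫ (g l).left := congrArg (fun m : Z ⟶ U => m.left) e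
    exact (val_map F _ gk c (Over.w φ) _ hk rfl (s k)).trans ((h k l _ _ _ _
      (by rw [Category.assoc, Category.assoc, e']) hk hl).trans
      (val_map F _ gl c (Over.w φ) _ hl rfl (s l)).symm))
  exact ⟨t, ht⟩

end Groth.Agent.ProperPush24
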