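import Groth.Agent.Lib.ProperPush24.Stage
import Groth.Agent.Lib.ProperPush24.AtVal
import Groth.Agent.Lib.ProperPush24.Glue
import Mathlib.AlgebraicGeometry.Morphisms.Proper

/-!
# Sections over the local algebra come from a stage
-/

universe u

open CategoryTheory CategoryTheory.Limits AlgebraicGeometry Opposite

set_option backward.isDefEq.respectTransparency.types false

namespace Groth.Agent.ProperPush24

open Groth.Agent.EtStalk Groth.Agent.Gabber24 Groth.Agent.ConnDescent24

variable {X Y : Scheme.{u}} (f : X ⟶ Y) {A : Type u} [CommRing A] [IsLocalRing A]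
  {α : Spec (CommRingCat.of A) ⟶ Y}

/-- The map from the local base change to the base change of a stage. -/
noncomputable def toStage (T : Stage α) : pullback f α ⟶ ((EtCoh.bc f).obj T.V).left :=
  pullback.lift (pullback.snd f α ≫ T.a) (pullback.fst f α) (by
    rw [Category.assoc, T.w]; exact pullback.condition.symm)

lemma toStage_hom (T : Stage α) : toStage f T ≫ ((EtCoh.bc f).obj T.V).hom = pullback.fst f α :=
  pullback.lift_snd _ _ _

lemma toStage_fst (T : Stage α) : toStage f T ≫ bcFst f T.V = pullback.snd f α ≫ T.a :=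
  pullback.lift_fst _ _ _

lemma toStage_map {T T' : Stage α} (m : T'.V ⟶ T.V) (hm : T'.a ≫ m.left = T.a) :
    toStage f T' ≫ ((EtCoh.bc f).map m).left = toStage f T := by
  refine pullback.hom_ext ?_ ?_
  · refine (Category.assoc _ _ _).trans ((congrArg (toStage f T' ≫ ·) (EtCoh.isPullback_bc_map f m).w).trans ?_)
    refine (Category.assoc _ _ _).symm.trans ((congrArg (· ≫ m.left) (toStage_fst f T')).trans ?_)
    exact (Category.assoc _ _ _).trans ((congrArg (_ ≫ ·) hm).trans (pullback.lift_fst _ _ _).symm)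
  · refine (Category.assoc _ _ _).trans ((congrArg (toStage f T' ≫ ·) (MorphismProperty.Over.w ((EtCoh.bc f).map m))).trans ?_)
    exact (toStage_hom f T').trans (pullback.lift_snd _ _ _).symm

lemma exists_dominate_finset {κ : Type*} (T₀ : Stage α) (S : Finset κ) (T : κ → Stage α) :
    ∃ (T' : Stage α) (_ : T'.V ⟶ T₀.V) (m : ∀ k ∈ S, T'.V ⟶ (T k).V),
      ∀ k (hk : k ∈ S), T'.a ≫ (m k hk).left = (T k).a := by
  classical
  induction S using Finset.induction with
  | empty => exact ⟨T₀, 𝟙 _, fun k hk => absurd hk (Finset.notMem_empty k), fun k hk => absurd hk (Finset.notMem_empty k)⟩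
  | insert j S hj ih =>
    obtain ⟨T₁, m₀, m, hm⟩ := ih
    obtain ⟨T', n, n', hn, hn'⟩ := T₁.exists_dominate (T j)
    refine ⟨T', n ≫ m₀, fun k hk => if e : k = j then (e ▸ n') else n ≫ m k (Finset.mem_of_mem_insert_of_ne hk e), ?_⟩
    intro k hk
    by_cases e : k = j
    · subst e
      simp only [dite_true]
      exact hn'
    · simp only [dif_neg e]
      rw [show (n ≫ m k (Finset.mem_of_mem_insert_of_ne hk e)).left = n.left ≫ (m k _).left from rfl,
        ← Category.assoc, hn, hm]

variable (F : EtCoh.Ab X)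

/-- A piece of a descent: a section on an etale scheme over the base change of a stage, taking the
values of `τ`. -/
structure Piece (τ : ((EtCoh.pull (pullback.fst f α)).obj F).obj.obj (op (EtCoh.top (pullback f α)))) where
  T : Stage α
  N : X.Etale
  h : N ⟶ (EtCoh.bc f).obj T.V
  compact : CompactSpace N.left
  sec : F.obj.obj (op N)
  spec : ∀ (K : Type u) [Field K] [IsSepClosed K] (l : Spec (CommRingCat.of K) ⟶ pullback f α)
    (n : Spec (CommRingCat.of K) ⟶ N.left) (hn : n ≫ N.hom = l ≫ pullback.fst f α),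
    n ≫ h.left = l ≫ toStage f T → At (pullback.fst f α) F τ l l (Category.comp_id l) n hn sec

set_option maxHeartbeats 1000000 in
/-- Every point lies on a piece. -/
theorem exists_piece (hL : HasLifts α) (T₀ : Stage α)
    (τ : ((EtCoh.pull (pullback.fst f α)).obj F).obj.obj (op (EtCoh.top (pullback f α))))
    (x : (pullback f α : Scheme.{u})) :
    ∃ P : Piece f F τ, toStage f P.T x ∈ Set.range P.h.left := by
  let pA := pullback.fst f α
  let qA := pullback.snd f α
  let g₀ := geomPt (pullback f α) x
  obtain ⟨N, n, hn, s, hs⟩ := exists_at pA F τ g₀ g₀ (Category.comp_id g₀)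
  let W := pullback (N.hom ≫ f) T₀.V.hom
  let p : W ⟶ T₀.V.left := pullback.snd (N.hom ≫ f) T₀.V.hom
  let gN : pullback p T₀.a ⟶ N.left := pullback.fst p T₀.a ≫ pullback.fst (N.hom ≫ f) T₀.V.hom
  let gX : pullback p T₀.a ⟶ pullback f α := pullback.lift (gN ≫ N.hom) (pullback.snd p T₀.a) (by
    simp only [gN, Category.assoc]
    rw [pullback.condition, pullback.condition_assoc, T₀.w])
  have hgX : gX ≫ pA = gN ≫ N.hom := pullback.lift_fst _ _ _
  let c : pullback p T₀.a ⟶ cmpScheme pA (EtCoh.top (pullback f α)) N :=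
    pullback.lift gX gN (by
      show gX ≫ 𝟙 _ ≫ pA = gN ≫ N.hom
      rw [Category.id_comp, hgX])
  let M : Set (pullback p T₀.a : Scheme.{u}) := c ⁻¹' good pA F τ s
  have hM : IsOpen M := (isOpen_good pA F τ s).preimage c.continuous
  let w₀ := pullback.lift n ((g₀ ≫ qA) ≫ T₀.a) (by
    rw [← Category.assoc, hn]
    simp only [pA, qA, Category.assoc]
    rw [pullback.condition, T₀.w])
  let l₀ : Spec (CommRingCat.of _) ⟶ pullback p T₀.a := pullback.lift w₀ (g₀ ≫ qA) (pullback.lift_snd _ _ _)
  have hlN : l₀ ≫ gN = n := by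
    simp only [l₀, w₀, gN, pullback.lift_fst_assoc, pullback.lift_fst]
  have hlX : l₀ ≫ gX = g₀ := by
    refine pullback.hom_ext ?_ ?_
    · rw [Category.assoc, pullback.lift_fst, ← Category.assoc, hlN, hn]
    · rw [Category.assoc, pullback.lift_snd, pullback.lift_snd]
  have hz : l₀ default ∈ M := by
    show c (l₀ default) ∈ good pA F τ s
    rw [← Scheme.Hom.comp_apply]
    refine (mem_good_iff pA F τ s (l₀ ≫ c) g₀ g₀ n ?_ ?_ (Category.comp_id g₀) hn).2 hs
    · exact (Category.assoc _ _ _).trans ((congrArg (l₀ ≫ ·) (pullback.lift_fst _ _ _)).trans hlX)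
    · rw [Category.assoc, pullback.lift_snd, hlN]
  obtain ⟨T, m, hm, O, hO, hzO, hOM⟩ := exists_open_stage hL T₀ p hM _ hz
  let qN : O.toScheme ⟶ N.left := O.ι ≫ pullback.fst p m.left ≫ pullback.fst (N.hom ≫ f) T₀.V.hom
  haveI : AlgebraicGeometry.Etale N.hom := N.prop
  haveI : AlgebraicGeometry.Etale T₀.V.hom := T₀.V.prop
  haveI : AlgebraicGeometry.Etale T.V.hom := T.V.prop
  haveI : AlgebraicGeometry.Etale m.left := by
    haveI : AlgebraicGeometry.Etale (m.left ≫ T₀.V.hom) := by
      rw [MorphismProperty.Over.w]; exact T.V.prop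
    exact AlgebraicGeometry.Etale.of_comp m.left T₀.V.hom
  have hqN : AlgebraicGeometry.Etale qN := by simp only [qN]; infer_instance
  let N' : X.Etale := MorphismProperty.Over.mk ⊤ (qN ≫ N.hom) (by infer_instance)
  let qB : O.toScheme ⟶ ((EtCoh.bc f).obj T.V).left :=
    pullback.lift (O.ι ≫ pullback.snd p m.left) (qN ≫ N.hom) (by
      simp only [qN, Category.assoc]
      rw [pullback.condition, ← MorphismProperty.Over.w m, ← pullback.condition_assoc])
  let h : N' ⟶ (EtCoh.bc f).obj T.V := MorphismProperty.Over.homMk qB (pullback.lift_snd _ _ _)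
  let r : N' ⟶ N := MorphismProperty.Over.homMk qN rfl
  haveI : IsAffine O.toScheme := hO
  refine ⟨⟨T, N', h, inferInstanceAs (CompactSpace O.toScheme), F.obj.map r.op s,
    fun K _ _ l n' hn' he => ?_⟩, ?_⟩
  · let a' : Spec (CommRingCat.of K) ⟶ O.toScheme := n'
    have he' : a' ≫ qB = l ≫ toStage f T := he
    have hN : (a' ≫ qN) ≫ N.hom = l ≫ pA := (Category.assoc _ _ _).trans hn'
    have h2 : (a' ≫ O.ι ≫ pullback.snd p m.left) = (l ≫ qA) ≫ T.a := by
      exact (congrArg (a' ≫ ·) (pullback.lift_fst _ _ _)).symm.trans ((Category.assoc _ _ _).symm.trans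
        ((congrArg (· ≫ bcFst f T.V) he').trans ((Category.assoc _ _ _).trans
          ((congrArg (l ≫ ·) (toStage_fst f T)).trans (Category.assoc _ _ _).symm))))
    let y : Spec (CommRingCat.of K) ⟶ pullback p T₀.a :=
      pullback.lift (a' ≫ O.ι ≫ pullback.fst p m.left) (l ≫ qA) (by
        simp only [Category.assoc]
        rw [pullback.condition, ← hm]
        have := congrArg (· ≫ m.left) h2
        simpa only [Category.assoc] using this)
    have hy : y ≫ cmp p m hm = a' ≫ O.ι := by
      refine pullback.hom_ext ?_ ?_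
      · simp only [y, cmp, Category.assoc, pullback.lift_fst]
      · rw [Category.assoc, cmp, pullback.lift_snd, pullback.lift_snd_assoc, Category.assoc a', h2]
    have hyM : y default ∈ M := hOM _ (by
      rw [← Scheme.Hom.comp_apply, hy, Scheme.Hom.comp_apply]
      exact (a' default).2)
    have hyN : y ≫ gN = a' ≫ qN := by
      simp only [y, gN, qN, pullback.lift_fst_assoc, Category.assoc]
    have hyX : y ≫ gX = l := by
      refine pullback.hom_ext ?_ ?_
      · rw [Category.assoc, pullback.lift_fst, ← Category.assoc, hyN, hN]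
      · rw [Category.assoc, pullback.lift_snd, pullback.lift_snd]
    have hat : At pA F τ l l (Category.comp_id l) (a' ≫ qN) hN s := by
      refine (mem_good_iff pA F τ s (y ≫ c) l l (a' ≫ qN) ?_ ?_ (Category.comp_id l) hN).1 ?_
      · exact (Category.assoc _ _ _).trans ((congrArg (y ≫ ·) (pullback.lift_fst _ _ _)).trans hyX)
      · rw [Category.assoc, pullback.lift_snd, hyN]
      · rw [Scheme.Hom.comp_apply]; exact hyM
    exact hat.congr (val_map F (l ≫ pA) r n' hn' (a' ≫ qN) hN rfl s).symm
  · let y₀ : Spec (CommRingCat.of _) ⟶ pullback p m.left := l₀ ≫ cmp p m hm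
    let a₀ : Spec (CommRingCat.of _) ⟶ O.toScheme := IsOpenImmersion.lift O.ι y₀ (by
      rw [Scheme.Opens.range_ι]
      rintro _ ⟨z, rfl⟩
      rw [Subsingleton.elim z default, Scheme.Hom.comp_apply]
      exact hzO)
    have ha₀ : a₀ ≫ O.ι = y₀ := IsOpenImmersion.lift_fac _ _ _
    have hN₀ : a₀ ≫ qN = n := by
      simp only [qN, reassoc_of% ha₀, y₀, cmp, Category.assoc, pullback.lift_fst_assoc]
      exact hlN
    have he : a₀ ≫ qB = g₀ ≫ toStage f T := by
      refine pullback.hom_ext ?_ ?_
      · refine (Category.assoc _ _ _).trans ((congrArg (a₀ ≫ ·) (pullback.lift_fst _ _ _)).trans ?_)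
        refine Eq.trans ?_ ((Category.assoc _ _ _).trans (congrArg (g₀ ≫ ·) (toStage_fst f T))).symm
        rw [← Category.assoc, ha₀]
        simp only [y₀, cmp, Category.assoc, pullback.lift_snd]
        rw [← Category.assoc l₀, pullback.lift_snd, Category.assoc]
      · refine (Category.assoc _ _ _).trans ((congrArg (a₀ ≫ ·) (pullback.lift_snd _ _ _)).trans ?_)
        rw [← Category.assoc, hN₀, hn]
        exact ((Category.assoc _ _ _).trans (congrArg (g₀ ≫ ·) (toStage_hom f T))).symm
    refine ⟨a₀ default, ?_⟩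
    show qB (a₀ default) = toStage f T x
    rw [← Scheme.Hom.comp_apply, he, Scheme.Hom.comp_apply, geomPt_default]

end Groth.Agent.ProperPush24
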